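import Cfsg.Agent.FGS80.ClassPrimes
import Cfsg.Agent.FGS80.Basic
import Cfsg.Agent.FGS76.Basic
import Cfsg.Agent.OddLocal44.Stability
import Cfsg.Agent.S0144

/-!
# Groups with class sizes `{1, m, m * n}`, `(m, n) = 1`: basic lemmas
-/

namespace Cfsg.Agent.FGS80.ThreeSizes

open Subgroup

variable {G : Type*} [Group G] [Finite G]

/-- The class sizes are `1`, `m`, `m * n` with `m`, `n` coprime. -/
structure Hyp (G : Type*) [Group G] (m n : ℕ) : Prop where
  one_lt_m : 1 < m
  one_lt_n : 1 < n
  cop : m.Coprime n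
  sizes : Set.range (fun x : G => (centralizer ({x} : Set G)).index) = ({1, m, m * n} : Set ℕ)

/-- `x` is a `p`-element. -/
def IsPEl (p : ℕ) (x : G) : Prop := ∃ k : ℕ, orderOf x = p ^ k

omit [Finite G] in
lemma IsPEl.coprime {p q : ℕ} (hp : p.Prime) (hq : q.Prime) (hpq : p ≠ q) {a b : G}
    (ha : IsPEl p a) (hb : IsPEl q b) : (orderOf a).Coprime (orderOf b) :=
  FGS76.not_dvd_of_prime_pow hp hq hpq.symm ha hb

omit [Finite G] in
lemma IsPEl.coprime_of_not_dvd {p : ℕ} (hp : p.Prime) {a b : G} (ha : IsPEl p a)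
    (hb : ¬ p ∣ orderOf b) : (orderOf a).Coprime (orderOf b) := by
  obtain ⟨k, hk⟩ := ha
  rw [hk]
  exact (hp.coprime_iff_not_dvd.mpr hb).pow_left k

omit [Finite G] in
lemma isPEl_conj {p : ℕ} {x : G} (c : G) (hx : IsPEl p x) : IsPEl p (c * x * c⁻¹) := by
  obtain ⟨k, hk⟩ := hx
  exact ⟨k, by rw [← hk]; exact orderOf_injective (MulAut.conj c).toMonoidHom (MulAut.conj c).injective x⟩

lemma isPEl_of_mem {p : ℕ} (hp : p.Prime) {R : Subgroup G} (hR : IsPGroup p R) {x : G} (hx : x ∈ R) :
    IsPEl p x :=
  haveI := Fact.mk hp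
  FGS76.orderOf_eq_pow_of_mem hR hx

/-- Some primary part of an element outside a subgroup lies outside it. -/
lemma exists_primary_not_mem (K : Subgroup G) {g : G} (hg : g ∉ K) :
    ∃ (p : ℕ) (a : G), p.Prime ∧ (∃ i : ℕ, a = g ^ i) ∧ IsPEl p a ∧ a ∉ K := by
  induction hk : orderOf g using Nat.strong_induction_on generalizing g with
  | _ k ih =>
    have hne : orderOf g ≠ 1 := fun h => hg (orderOf_eq_one_iff.mp h ▸ one_mem K)
    obtain ⟨p, hp, hpd⟩ := Nat.exists_prime_and_dvd hne
    haveI := Fact.mk hp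
    obtain ⟨a, b, ⟨i, hi⟩, ⟨j, hj⟩, hab, ha, hb⟩ := FGS76.exists_split p g
    by_cases haK : a ∈ K
    · have hbK : b ∉ K := fun h => hg (hab ▸ mul_mem haK h)
      have hlt : orderOf b < k := by
        rw [← hk]
        refine lt_of_le_of_ne (Nat.le_of_dvd (orderOf_pos g) (hj ▸ orderOf_pow_dvd j)) ?_
        exact fun h => hb (h ▸ hpd)
      obtain ⟨q, c, hq, ⟨l, hl⟩, hc, hcK⟩ := ih _ hlt hbK rfl
      exact ⟨q, c, hq, ⟨j * l, by rw [hl, hj, pow_mul]⟩, hc, hcK⟩
    · exact ⟨p, a, hp, ⟨i, hi⟩, ha, haK⟩

omit [Finite G] in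
lemma centralizer_le_pow (g : G) (i : ℕ) :
    centralizer ({g} : Set G) ≤ centralizer ({g ^ i} : Set G) := fun x hx => by
  rw [mem_centralizer_singleton_iff] at hx ⊢
  exact (Commute.pow_right hx i).eq

omit [Finite G] in
lemma centralizer_mul {a b : G} (hc : Commute a b) (hcop : (orderOf a).Coprime (orderOf b)) :
    centralizer ({a * b} : Set G) = centralizer ({a} : Set G) ⊓ centralizer ({b} : Set G) := by
  refine le_antisymm (le_inf (ClassPrimes.centralizer_mul_le hc hcop)
    (hc.eq ▸ ClassPrimes.centralizer_mul_le hc.symm hcop.symm)) ?_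
  rintro x ⟨h1, h2⟩
  have h1' : Commute x a := mem_centralizer_singleton_iff.mp h1
  have h2' : Commute x b := mem_centralizer_singleton_iff.mp h2
  exact mem_centralizer_singleton_iff.mpr (h1'.mul_right h2').eq

omit [Finite G] in
lemma mem_centralizer_comm {a b : G} (h : a ∈ centralizer ({b} : Set G)) :
    b ∈ centralizer ({a} : Set G) :=
  mem_centralizer_singleton_iff.mpr (mem_centralizer_singleton_iff.mp h).symm

lemma index_centralizer_conj (y w : G) :
    (centralizer ({y * w * y⁻¹} : Set G)).index = (centralizer ({w} : Set G)).index := by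
  have : centralizer ({y * w * y⁻¹} : Set G) =
      (centralizer ({w} : Set G)).map (MulAut.conj y : G ≃* G).toMonoidHom := by
    ext z
    constructor
    · intro h
      refine ⟨y⁻¹ * z * y, mem_centralizer_singleton_iff.mpr ?_, by simp [mul_assoc]⟩
      have h' := mem_centralizer_singleton_iff.mp h
      calc y⁻¹ * z * y * w = y⁻¹ * (z * (y * w * y⁻¹)) * y := by group
        _ = w * (y⁻¹ * z * y) := by rw [h']; group
    · rintro ⟨u, hu, rfl⟩
      refine mem_centralizer_singleton_iff.mpr ?_
      have h' := mem_centralizer_singleton_iff.mp hu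
      simp only [MulEquiv.coe_toMonoidHom, MulAut.conj_apply]
      calc y * u * y⁻¹ * (y * w * y⁻¹) = y * (u * w) * y⁻¹ := by group
        _ = y * w * y⁻¹ * (y * u * y⁻¹) := by rw [h']; group
  rw [this]
  exact Subgroup.index_map_of_bijective (MulAut.conj y).bijective _

lemma index_eq_one_iff_mem_center {g : G} :
    (centralizer ({g} : Set G)).index = 1 ↔ g ∈ center G := by
  rw [index_eq_one]
  constructor
  · exact fun h => mem_center_iff.mpr fun x =>
      mem_centralizer_singleton_iff.mp (h ▸ mem_top x)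
  · exact fun h => eq_top_iff.mpr fun x _ =>
      mem_centralizer_singleton_iff.mpr (mem_center_iff.mp h x)

lemma eq_of_le_of_index_eq {C D : Subgroup G} (hle : C ≤ D) (h : C.index = D.index) : C = D := by
  rcases hle.lt_or_eq with hlt | he
  · have := relIndex_mul_index hle
    rw [h, Nat.mul_eq_right index_ne_zero_of_finite] at this
    exact absurd (relIndex_eq_one.mp this) hlt.not_ge
  · exact he

/-- A subgroup of index prime to `p` in `D` contains a `D`-conjugate of every `p`-subgroup of `D`. -/
lemma exists_conj_le {p : ℕ} [Fact p.Prime] {E D Q : Subgroup G} (hE : E ≤ D)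
    (hp : ¬ p ∣ E.relIndex D) (hQ : IsPGroup p Q) (hQD : Q ≤ D) :
    ∃ d ∈ D, ∀ x ∈ Q, d * x * d⁻¹ ∈ E := by
  have hQ' : IsPGroup p (Q.subgroupOf D) := hQ.of_equiv (subgroupOfEquivOfLe hQD).symm
  obtain ⟨c, hc⟩ := hQ'.nonempty_fixed_point_of_prime_not_dvd_card (↥D ⧸ E.subgroupOf D) hp
  induction c using QuotientGroup.induction_on with
  | H y =>
    refine ⟨(y : G)⁻¹, inv_mem y.2, fun x hx => ?_⟩
    have h1 : (⟨x, hQD hx⟩ : D) • (y : ↥D ⧸ E.subgroupOf D) = y :=
      hc ⟨⟨x, hQD hx⟩, mem_subgroupOf.mpr hx⟩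
    rw [MulAction.Quotient.smul_coe, QuotientGroup.eq, mem_subgroupOf] at h1
    have h2 := inv_mem h1
    simpa [mul_assoc] using h2

/-- An element of a subgroup of index prime to `p` conjugate version. -/
lemma exists_conj_mem {p : ℕ} [Fact p.Prime] {D : Subgroup G} (hp : ¬ p ∣ D.index) {x : G}
    (hx : IsPEl p x) : ∃ y : G, y * x * y⁻¹ ∈ D := by
  obtain ⟨d, -, hd⟩ := exists_conj_le (D := ⊤) (le_top : D ≤ ⊤) (by rwa [relIndex_top_right])
    (FGS76.isPGroup_zpowers hx) le_top
  exact ⟨d, hd x (mem_zpowers x)⟩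

lemma factorization_card (H : Subgroup G) (p : ℕ) :
    (Nat.card H).factorization p + H.index.factorization p = (Nat.card G).factorization p := by
  rw [← H.card_mul_index, Nat.factorization_mul Nat.card_pos.ne' index_ne_zero_of_finite]
  rfl

/-- If `w` is a noncentral `p`-element centralizing `h` and the `p`-part of the class size of `g`
is at most that of `h`, then `g` centralizes a noncentral `p`-element. -/
lemma exists_noncentral_in {p : ℕ} [hp : Fact p.Prime] {g h w : G}
    (hwh : w ∈ centralizer ({h} : Set G)) (hw : IsPEl p w) (hwZ : w ∉ center G)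
    (hle : (centralizer ({g} : Set G)).index.factorization p ≤
      (centralizer ({h} : Set G)).index.factorization p) :
    ∃ v ∈ centralizer ({g} : Set G), IsPEl p v ∧ v ∉ center G := by
  by_contra hcon
  push Not at hcon
  obtain ⟨S⟩ : Nonempty (Sylow p (centralizer ({g} : Set G))) := inferInstance
  set S' := (S : Subgroup _).map (centralizer ({g} : Set G)).subtype with hS'
  have hS'p : IsPGroup p S' := S.2.map _
  have hS'Z : S' ≤ center G := fun x hx =>
    hcon x (map_subtype_le _ hx) (isPEl_of_mem hp.out hS'p hx)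
  haveI : S'.Normal := ⟨fun x hx c => by
    rw [mem_center_iff.mp (hS'Z hx) c, mul_inv_cancel_right]; exact hx⟩
  set T := S' ⊔ zpowers w
  have hTp : IsPGroup p T :=
    IsPGroup.to_sup_of_normal_left hS'p (FGS76.isPGroup_zpowers hw)
  have hTh : T ≤ centralizer ({h} : Set G) :=
    sup_le (hS'Z.trans (center_le_centralizer _)) ((zpowers_le).mpr hwh)
  obtain ⟨e, he⟩ := hTp.exists_card_eq
  have h1 : e ≤ (Nat.card (centralizer ({h} : Set G))).factorization p := by
    rw [← hp.out.pow_dvd_iff_le_factorization Nat.card_pos.ne', ← he]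
    exact card_dvd_of_le hTh
  have hS'c : Nat.card S' =
      p ^ (Nat.card (centralizer ({g} : Set G))).factorization p := by
    rw [hS', card_map_of_injective (subtype_injective _), S.card_eq_multiplicity]
  have hlt : Nat.card S' < Nat.card T := by
    refine lt_of_le_of_ne (card_le_of_le le_sup_left) fun he' => hwZ (hS'Z ?_)
    rw [Subgroup.eq_of_le_of_card_ge le_sup_left he'.ge]
    exact mem_sup_right (mem_zpowers w)
  rw [hS'c, he] at hlt
  have h2 := (Nat.pow_lt_pow_iff_right hp.out.one_lt).mp hlt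
  have h3 := factorization_card (centralizer ({h} : Set G)) p
  have h4 := factorization_card (centralizer ({g} : Set G)) p
  omega

variable {m n : ℕ}

namespace Hyp

variable (H : Hyp G m n)
include H

lemma m_ne_zero : m ≠ 0 := by have := H.one_lt_m; omega

lemma n_ne_zero : n ≠ 0 := by have := H.one_lt_n; omega

lemma mn_ne_m : m * n ≠ m := by
  intro h
  have := (Nat.mul_eq_left H.m_ne_zero).mp h
  exact H.one_lt_n.ne' this

omit [Finite G] in
lemma cases3 (g : G) : (centralizer ({g} : Set G)).index = 1 ∨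
    (centralizer ({g} : Set G)).index = m ∨ (centralizer ({g} : Set G)).index = m * n := by
  have : (centralizer ({g} : Set G)).index ∈ ({1, m, m * n} : Set ℕ) :=
    H.sizes ▸ Set.mem_range_self g
  simpa using this

omit [Finite G] in
lemma exists_m : ∃ g : G, (centralizer ({g} : Set G)).index = m := by
  have : m ∈ Set.range (fun x : G => (centralizer ({x} : Set G)).index) := by
    rw [H.sizes]; simp
  exact this

omit [Finite G] in
lemma exists_mn : ∃ g : G, (centralizer ({g} : Set G)).index = m * n := by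
  have : m * n ∈ Set.range (fun x : G => (centralizer ({x} : Set G)).index) := by
    rw [H.sizes]; simp
  exact this

omit [Finite G] in
lemma index_dvd (g : G) : (centralizer ({g} : Set G)).index ∣ m * n := by
  rcases H.cases3 g with h | h | h <;> simp [h]

lemma cases2 {g : G} (hg : g ∉ center G) : (centralizer ({g} : Set G)).index = m ∨
    (centralizer ({g} : Set G)).index = m * n :=
  (H.cases3 g).resolve_left fun h => hg (index_eq_one_iff_mem_center.mp h)

lemma not_mem_center_of_m {g : G} (hg : (centralizer ({g} : Set G)).index = m) :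
    g ∉ center G := fun h => by
  have h1 := index_eq_one_iff_mem_center.mpr h
  have := H.one_lt_m
  omega

lemma not_mem_center_of_mn {g : G} (hg : (centralizer ({g} : Set G)).index = m * n) :
    g ∉ center G := fun h => by
  have h1 := index_eq_one_iff_mem_center.mpr h
  have := Nat.le_mul_of_pos_right m (Nat.pos_of_ne_zero H.n_ne_zero)
  have := H.one_lt_m
  omega

lemma index_eq_m_of_le {g : G} (hg : g ∉ center G) {D : Subgroup G} (hD : D.index = m)
    (hle : D ≤ centralizer ({g} : Set G)) : centralizer ({g} : Set G) = D := by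
  refine (eq_of_le_of_index_eq hle ?_).symm
  rcases H.cases2 hg with h | h
  · rw [h, hD]
  · exfalso
    have := index_dvd_of_le hle
    rw [h, hD] at this
    have h2 := Nat.le_of_dvd (Nat.pos_of_ne_zero H.m_ne_zero) this
    have h3 := Nat.le_mul_of_pos_right m (Nat.pos_of_ne_zero H.n_ne_zero)
    exact H.mn_ne_m (le_antisymm h2 h3)

/-- An element of class size `m * n` has minimal centralizer. -/
lemma le_of_mn {s w : G} (hs : (centralizer ({s} : Set G)).index = m * n) (hc : Commute s w)
    (hcop : (orderOf s).Coprime (orderOf w)) :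
    centralizer ({s} : Set G) ≤ centralizer ({w} : Set G) := by
  have hle : centralizer ({s * w} : Set G) ≤ centralizer ({s} : Set G) :=
    ClassPrimes.centralizer_mul_le hc hcop
  have he : centralizer ({s * w} : Set G) = centralizer ({s} : Set G) := by
    refine eq_of_le_of_index_eq hle (le_antisymm ?_ (Nat.le_of_dvd
      (Nat.pos_of_ne_zero index_ne_zero_of_finite) (index_dvd_of_le hle)))
    rw [hs]
    exact Nat.le_of_dvd (Nat.pos_of_ne_zero (Nat.mul_ne_zero H.m_ne_zero H.n_ne_zero))
      (H.index_dvd _)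
  rw [← he, centralizer_mul hc hcop]
  exact inf_le_right

/-- In the centralizer of `x` of class size `m`, an element of coprime order is central or has
relative class size `n`. -/
lemma step {x w : G} (hx : (centralizer ({x} : Set G)).index = m)
    (hw : w ∈ centralizer ({x} : Set G)) (hcop : (orderOf x).Coprime (orderOf w)) :
    centralizer ({x} : Set G) ≤ centralizer ({w} : Set G) ∨
      ((centralizer ({x * w} : Set G)).index = m * n ∧
        (centralizer ({x} : Set G) ⊓ centralizer ({w} : Set G)).relIndex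
          (centralizer ({x} : Set G)) = n) := by
  have hc : Commute x w := (mem_centralizer_singleton_iff.mp hw).symm
  have he := centralizer_mul hc hcop
  have hle : centralizer ({x * w} : Set G) ≤ centralizer ({x} : Set G) := he.le.trans inf_le_left
  rcases H.cases3 (x * w) with h | h | h
  · exfalso
    have := index_dvd_of_le hle
    rw [h, hx, Nat.dvd_one] at this
    have := H.one_lt_m
    omega
  · left
    rw [← eq_of_le_of_index_eq hle (h.trans hx.symm), he]
    exact inf_le_right
  · right
    refine ⟨h, ?_⟩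
    have := relIndex_mul_index hle
    rw [h, hx, he, mul_comm m n] at this
    exact Nat.eq_of_mul_eq_mul_right (Nat.pos_of_ne_zero H.m_ne_zero) this

omit [Finite G] in
lemma not_dvd_n {p : ℕ} (hp : p.Prime) (hpm : p ∣ m) : ¬ p ∣ n := fun h =>
  hp.one_lt.ne' (Nat.eq_one_of_dvd_coprimes H.cop hpm h)

omit [Finite G] in
lemma not_dvd_m {q : ℕ} (hq : q.Prime) (hqn : q ∣ n) : ¬ q ∣ m := fun h =>
  hq.one_lt.ne' (Nat.eq_one_of_dvd_coprimes H.cop h hqn)

lemma factorization_index_of_dvd_m {p : ℕ} (hp : p.Prime) (hpm : p ∣ m) {g : G}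
    (hg : g ∉ center G) :
    (centralizer ({g} : Set G)).index.factorization p = m.factorization p := by
  rcases H.cases2 hg with h | h <;> rw [h]
  rw [Nat.factorization_mul H.m_ne_zero H.n_ne_zero, Finsupp.add_apply,
    Nat.factorization_eq_zero_of_not_dvd (H.not_dvd_n hp hpm), add_zero]

lemma factorization_index_le (g : G) {p : ℕ} :
    (centralizer ({g} : Set G)).index.factorization p ≤ (m * n).factorization p :=
  (Nat.factorization_le_iff_dvd index_ne_zero_of_finite
    (Nat.mul_ne_zero H.m_ne_zero H.n_ne_zero)).mpr (H.index_dvd g) p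

/-- A prime dividing `m * n` has noncentral elements of its power order. -/
lemma exists_noncentral_pEl {p : ℕ} (hp : p.Prime) (hpd : p ∣ m * n) :
    ∃ w : G, IsPEl p w ∧ w ∉ center G := by
  haveI := Fact.mk hp
  obtain ⟨g, hg⟩ := H.exists_mn
  obtain ⟨P⟩ : Nonempty (Sylow p G) := inferInstance
  have := (ClassPrimes.isVertex_iff P).mp ⟨hp, g, hg ▸ hpd⟩
  obtain ⟨w, hw, hwZ⟩ := SetLike.not_le_iff_exists.mp this
  exact ⟨w, isPEl_of_mem hp P.2 hw, hwZ⟩

/-- For a prime `p ∣ m` every noncentral element centralizes a noncentral `p`-element. -/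
lemma exists_noncentral_pEl_centralizing {p : ℕ} (hp : p.Prime) (hpm : p ∣ m) (g : G) :
    ∃ v ∈ centralizer ({g} : Set G), IsPEl p v ∧ v ∉ center G := by
  haveI := Fact.mk hp
  obtain ⟨w, hw, hwZ⟩ := H.exists_noncentral_pEl hp (hpm.mul_right n)
  refine exists_noncentral_in (h := w) (mem_centralizer_singleton_iff.mpr rfl) hw hwZ ?_
  by_cases hg : g ∈ center G
  · rw [index_eq_one_iff_mem_center.mpr hg]; simp
  · rw [H.factorization_index_of_dvd_m hp hpm hg, H.factorization_index_of_dvd_m hp hpm hwZ]

/-- Every prime divisor of `|G|` divides `m * n`, when there is no abelian direct factor. -/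
lemma dvd_of_dvd_card
    (hdf : ∀ A B : Subgroup G, A.Normal → B.Normal → A ⊓ B = ⊥ → A ⊔ B = ⊤ →
      IsMulCommutative A → A = ⊥) {r : ℕ} (hr : r.Prime) (hrd : r ∣ Nat.card G) : r ∣ m * n := by
  haveI := Fact.mk hr
  obtain ⟨R⟩ : Nonempty (Sylow r G) := inferInstance
  by_contra hnd
  have hRZ : (R : Subgroup G) ≤ center G := by
    by_contra h
    obtain ⟨-, g, hg⟩ := (ClassPrimes.isVertex_iff R).mpr h
    exact hnd (hg.trans (H.index_dvd g))
  have hcen : normalizer ((R : Subgroup G) : Set G) ≤ centralizer ((R : Subgroup G) : Set G) :=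
    fun x _ => mem_centralizer_iff.mpr fun y hy => (mem_center_iff.mp (hRZ hy) x).symm
  have hRn : (R : Subgroup G).Normal := ⟨fun x hx c => by
    rw [mem_center_iff.mp (hRZ hx) c, mul_inv_cancel_right]; exact hx⟩
  have hc := MonoidHom.ker_transferSylow_isComplement' R hcen
  have h := hdf _ (MonoidHom.transferSylow R hcen).ker hRn inferInstance
    (disjoint_iff.mp hc.disjoint.symm) (by rw [sup_comm]; exact hc.sup_eq_top)
    ⟨⟨fun a b => Subtype.ext (mem_center_iff.mp (hRZ b.2) a)⟩⟩
  have h2 := R.pow_dvd_card_of_pow_dvd_card (n := 1) (by simpa using hrd)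
  rw [h, Subgroup.card_bot, pow_one, Nat.dvd_one] at h2
  exact hr.one_lt.ne' h2

end Hyp

/-- In a solvable group all of whose `p`-elements centralize a Sylow `p`-subgroup, `p`-subgroups
are abelian. -/
theorem commute_of_forall_not_dvd {K : Type*} [Group K] [Finite K] [Group.IsSolvable K] {p : ℕ}
    [hp : Fact p.Prime] (h : ∀ g : K, IsPEl p g → ¬ p ∣ (centralizer ({g} : Set K)).index)
    (R : Subgroup K) (hR : IsPGroup p R) {a b : K} (ha : a ∈ R) (hb : b ∈ R) : Commute a b := by
  set W := pPrimeCore p K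
  set π := QuotientGroup.mk' W
  have hπ : Function.Surjective π := QuotientGroup.mk'_surjective W
  have hps : IsPSolvable p (K ⧸ W) := OddLocal44.isPSolvable_of_isSolvable
  have hO : pPrimeCore p (K ⧸ W) = ⊥ := Thompson.pPrimeCore_quotient_pPrimeCore
  set L := pCore p (K ⧸ W)
  have hkey : ∀ g : K, IsPEl p g → L ≤ centralizer ({π g} : Set (K ⧸ W)) := by
    intro g hg
    have hle : (centralizer ({g} : Set K)).map π ≤ centralizer ({π g} : Set (K ⧸ W)) := by
      rintro _ ⟨x, hx, rfl⟩
      rw [mem_centralizer_singleton_iff, ← map_mul, ← map_mul,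
        mem_centralizer_singleton_iff.mp hx]
    have hnd : ¬ p ∣ (centralizer ({π g} : Set (K ⧸ W))).index := fun hd =>
      h g hg (hd.trans ((index_dvd_of_le hle).trans (index_map_dvd _ hπ)))
    obtain ⟨d, -, hd⟩ := exists_conj_le (D := ⊤) (le_top (a := centralizer ({π g} : Set (K ⧸ W))))
      (by rwa [relIndex_top_right]) (Thompson.isPGroup_pCore (G := K ⧸ W) (p := p)) le_top
    intro y hy
    have := hd _ ((inferInstance : L.Normal).conj_mem y hy d⁻¹)
    simpa [mul_assoc] using this
  have hmem : ∀ g : K, IsPEl p g → π g ∈ L := fun g hg =>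
    Thompson.centralizer_pCore_le hps hO (mem_centralizer_iff.mpr fun y hy =>
      (mem_centralizer_singleton_iff.mp (hkey g hg hy)))
  have hcom : π a * π b = π b * π a :=
    mem_centralizer_singleton_iff.mp
      (hkey b (isPEl_of_mem hp.out hR hb) (hmem a (isPEl_of_mem hp.out hR ha)))
  have h1 : a * b * a⁻¹ * b⁻¹ ∈ W := by
    rw [← QuotientGroup.eq_one_iff]
    show π (a * b * a⁻¹ * b⁻¹) = 1
    rw [map_mul, map_mul, map_mul, hcom, map_inv, map_inv, mul_inv_cancel_right, mul_inv_cancel]
  have h2 : a * b * a⁻¹ * b⁻¹ ∈ R := mul_mem (mul_mem (mul_mem ha hb) (inv_mem ha)) (inv_mem hb)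
  have h3 : a * b * a⁻¹ * b⁻¹ = 1 := Subgroup.mem_bot.mp
    ((Thompson.inf_eq_bot_of_isPGroup_of_coprime hR Thompson.card_pPrimeCore_coprime).le ⟨h2, h1⟩)
  rw [mul_inv_eq_one, mul_inv_eq_iff_eq_mul] at h3
  exact h3

/-- The relative version of `isVertex_iff`. -/
lemma le_centralizer_of_forall_not_dvd {p : ℕ} [hp : Fact p.Prime] {D : Subgroup G}
    (h : ∀ d ∈ D, ¬ p ∣ (centralizer ({d} : Set G)).relIndex D) {v : G} (hv : v ∈ D)
    (hvp : IsPEl p v) : D ≤ centralizer ({v} : Set G) := by
  have hv' : IsPGroup p (zpowers (⟨v, hv⟩ : D)) :=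
    FGS76.isPGroup_zpowers (by obtain ⟨k, hk⟩ := hvp; exact ⟨k, by rw [orderOf_mk, hk]⟩)
  obtain ⟨P, hP⟩ := hv'.exists_le_sylow
  have hPZ : (P : Subgroup D) ≤ center D := by
    by_contra hne
    obtain ⟨-, g, hg⟩ := (ClassPrimes.isVertex_iff P).mpr hne
    refine h g g.2 (hg.trans (dvd_of_eq ?_))
    rw [relIndex]
    congr 1
    ext x
    rw [mem_centralizer_singleton_iff, mem_subgroupOf, mem_centralizer_singleton_iff]
    exact Subtype.ext_iff
  intro x hx
  exact mem_centralizer_singleton_iff.mpr
    (congrArg Subtype.val (mem_center_iff.mp (hPZ (hP (mem_zpowers _))) ⟨x, hx⟩))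

/-- **Key lemma**: if `w` is an `s`-element of class size `m` and `r ≠ s` does not divide `n`, then
`r`-subgroups of the centralizer of `w` are abelian. -/
theorem Hyp.commute_of_m (H : Hyp G m n) {s r : ℕ} (hs : s.Prime) (hr : r.Prime) (hrs : r ≠ s)
    (hrn : ¬ r ∣ n) {w : G} (hw : IsPEl s w) (hwm : (centralizer ({w} : Set G)).index = m)
    (R : Subgroup G) (hR : IsPGroup r R) (hRw : R ≤ centralizer ({w} : Set G)) {a b : G}
    (ha : a ∈ R) (hb : b ∈ R) : Commute a b := by
  classical
  haveI := Fact.mk hr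
  haveI := Fact.mk hs
  set D := centralizer ({w} : Set G) with hD
  by_cases hy : ∃ (t : ℕ) (y : G), t.Prime ∧ t ≠ r ∧ t ≠ s ∧ IsPEl t y ∧ y ∈ D ∧
      ¬ D ≤ centralizer ({y} : Set G)
  · obtain ⟨t, y, ht, htr, hts, hyt, hyD, hyn⟩ := hy
    have hcop := IsPEl.coprime hs ht hts.symm hw hyt
    obtain ⟨hmn, hrel⟩ := (H.step hwm hyD hcop).resolve_left hyn
    have hc : Commute w y := (mem_centralizer_singleton_iff.mp hyD).symm
    obtain ⟨d, -, hd⟩ := exists_conj_le (p := r) inf_le_left (hrel ▸ hrn) hR hRw
    have hcomm : ∀ u v : G, u ∈ D ⊓ centralizer ({y} : Set G) → IsPEl r u →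
        v ∈ D ⊓ centralizer ({y} : Set G) → Commute v u := by
      intro u v hu hur hv
      rw [← centralizer_mul hc hcop] at hu hv
      have hco : (orderOf (w * y)).Coprime (orderOf u) := by
        rw [hc.orderOf_mul_eq_mul_orderOf_of_coprime hcop]
        exact Nat.Coprime.mul_left (IsPEl.coprime hs hr hrs.symm hw hur)
          (IsPEl.coprime ht hr htr hyt hur)
      exact mem_centralizer_singleton_iff.mp
        (H.le_of_mn hmn ((mem_centralizer_singleton_iff.mp hu).symm) hco hv)
    have h1 := hcomm _ _ (hd b hb) (isPEl_conj d (isPEl_of_mem hr hR hb)) (hd a ha)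
    exact (Commute.conj_iff d).mp h1
  · push Not at hy
    have hsolv : Group.IsSolvable D := by
      have hprime : ∀ t : ℕ, t.Prime → t ∣ (center D).index → t = r ∨ t = s := by
        intro t ht htd
        by_contra hcon
        push Not at hcon
        haveI := Fact.mk ht
        obtain ⟨T⟩ : Nonempty (Sylow t D) := inferInstance
        refine T.not_dvd_index (htd.trans (index_dvd_of_le fun x hx => mem_center_iff.mpr
          fun z => Subtype.ext ?_))
        have hxt : IsPEl t (x : G) := by
          obtain ⟨k, hk⟩ := isPEl_of_mem ht T.2 hx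
          exact ⟨k, by rw [orderOf_coe, hk]⟩
        exact mem_centralizer_singleton_iff.mp (hy t x ht hcon.1 hcon.2 hxt x.2 z.2)
      have hsq : Group.IsSolvable (D ⧸ center D) := by
        refine S0144.result r s ((center D).index.factorization r)
          ((center D).index.factorization s) hr hs ?_
        change (center D).index = _
        refine Nat.eq_of_factorization_eq index_ne_zero_of_finite
          (Nat.mul_ne_zero (pow_ne_zero _ hr.ne_zero) (pow_ne_zero _ hs.ne_zero)) fun t => ?_
        rw [Nat.factorization_mul (pow_ne_zero _ hr.ne_zero) (pow_ne_zero _ hs.ne_zero),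
          hr.factorization_pow, hs.factorization_pow, Finsupp.add_apply]
        by_cases htr : t = r
        · subst htr; simp [hrs]
        by_cases hts : t = s
        · subst hts; simp [Ne.symm hrs]
        simp only [Finsupp.single_apply, Ne.symm htr, Ne.symm hts, if_false, add_zero]
        by_cases ht : t.Prime
        · exact Nat.factorization_eq_zero_of_not_dvd fun h =>
            (hprime t ht h).elim htr hts
        · exact Nat.factorization_eq_zero_of_not_prime _ ht
      haveI : Group.IsSolvable (center D) := Group.isSolvable_of_comm fun u v => Subtype.ext ((mem_center_iff.mp v.2) u.1)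
      exact solvable_of_ker_le_range (center D).subtype (QuotientGroup.mk' (center D)) (by simp)
    have key := commute_of_forall_not_dvd (K := D) (p := r) ?_ (R.subgroupOf D)
      (hR.of_equiv (subgroupOfEquivOfLe hRw).symm) (a := ⟨a, hRw ha⟩) (b := ⟨b, hRw hb⟩)
      (mem_subgroupOf.mpr ha) (mem_subgroupOf.mpr hb)
    · exact congrArg Subtype.val key.eq
    intro g hg hdvd
    have hg' : IsPEl r (g : G) := by
      obtain ⟨k, hk⟩ := hg; exact ⟨k, by rw [orderOf_coe, hk]⟩
    have hidx : (centralizer ({g} : Set D)).index =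
        (centralizer ({(g : G)} : Set G)).relIndex D := by
      rw [relIndex]
      congr 1
      ext x
      rw [mem_centralizer_singleton_iff, mem_subgroupOf, mem_centralizer_singleton_iff]
      exact Subtype.ext_iff
    rw [hidx, ← inf_relIndex_left] at hdvd
    rcases H.step hwm g.2 (IsPEl.coprime hs hr hrs.symm hw hg') with h | ⟨-, h⟩
    · rw [inf_eq_left.mpr h, relIndex_self, Nat.dvd_one] at hdvd
      exact hr.one_lt.ne' hdvd
    · exact hrn (h ▸ hdvd)

end Cfsg.Agent.FGS80.ThreeSizes
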