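import Cfsg.Agent.FGS80.ThreeSizes.Basic

/-!
# Class sizes `{1, m, m * n}`: a `p`-element (`p ∣ m`) of class size `m` has abelian centralizer
-/

namespace Cfsg.Agent.FGS80.ThreeSizes

open Subgroup

variable {G : Type*} [Group G] [Finite G] {m n : ℕ}

namespace Hyp

variable (H : Hyp G m n) {p : ℕ} (hp : p.Prime) (hpm : p ∣ m) {x : G} (hx : IsPEl p x)
  (hxm : (centralizer ({x} : Set G)).index = m)
include H hp hpm hx hxm

/-- The Sylow `p`-subgroups of `C(x)` are abelian. -/
lemma commute_of_pSubgroup (R : Subgroup G) (hR : IsPGroup p R)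
    (hRD : R ≤ centralizer ({x} : Set G)) {a b : G} (ha : a ∈ R) (hb : b ∈ R) : Commute a b := by
  classical
  haveI := Fact.mk hp
  set D := centralizer ({x} : Set G) with hD
  have hpn := H.not_dvd_n hp hpm
  by_cases hw : ∃ (s : ℕ) (w : G), s.Prime ∧ s ≠ p ∧ IsPEl s w ∧ w ∈ D ∧
      ¬ D ≤ centralizer ({w} : Set G)
  · obtain ⟨s, w, hs, hsp, hws, hwD, hwn⟩ := hw
    have hcop := IsPEl.coprime hp hs hsp.symm hx hws
    have hc : Commute x w := (mem_centralizer_singleton_iff.mp hwD).symm
    obtain ⟨hmn, hrel⟩ := (H.step hxm hwD hcop).resolve_left hwn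
    have hwZ : w ∉ center G := fun h => hwn fun y _ =>
      mem_centralizer_singleton_iff.mpr (mem_center_iff.mp h y)
    obtain ⟨d, -, hd⟩ := exists_conj_le (p := p) inf_le_left (hrel ▸ hpn) hR hRD
    refine (Commute.conj_iff d).mp ?_
    rcases H.cases2 hwZ with hwm | hwmn
    · exact H.commute_of_m hs hp hsp.symm hpn hws hwm (R.map (MulAut.conj d).toMonoidHom)
        (hR.map _) (by rintro _ ⟨y, hy, rfl⟩; exact (hd y hy).2) ⟨a, ha, rfl⟩ ⟨b, hb, rfl⟩
    · have hbw := (hd b hb).2
      exact mem_centralizer_singleton_iff.mp (H.le_of_mn hwmn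
        ((mem_centralizer_singleton_iff.mp hbw).symm)
        (IsPEl.coprime hs hp hsp hws (isPEl_conj d (isPEl_of_mem hp hR hb))) (hd a ha).2)
  · push Not at hw
    obtain ⟨q, hq, hqn⟩ := Nat.exists_prime_and_dvd H.one_lt_n.ne'
    haveI := Fact.mk hq
    have hqm := H.not_dvd_m hq hqn
    have hqD : ¬ q ∣ D.index := hxm ▸ hqm
    have hqp : q ≠ p := fun h => hqm (h ▸ hpm)
    obtain ⟨u₀, hu₀, hu₀Z⟩ := H.exists_noncentral_pEl hq (hqn.mul_left m)
    obtain ⟨y, hy⟩ := exists_conj_mem hqD hu₀
    set u := y * u₀ * y⁻¹ with hu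
    have huq : IsPEl q u := isPEl_conj y hu₀
    have huZ : u ∉ center G := fun h => hu₀Z (by
      simpa [hu, mul_assoc] using (inferInstance : (center G).Normal).conj_mem u h y⁻¹)
    have huD : centralizer ({u} : Set G) = D :=
      H.index_eq_m_of_le huZ hxm (hw q u hq hqp huq hy)
    have hall : ∀ v ∈ D, IsPEl p v → D ≤ centralizer ({v} : Set G) := by
      intro v hv hvp
      rcases H.step (huD.symm ▸ hxm : (centralizer ({u} : Set G)).index = m) (huD ▸ hv)
        (IsPEl.coprime hq hp hqp huq hvp) with h | ⟨-, h⟩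
      · exact huD ▸ h
      · exfalso
        rw [huD] at h
        obtain ⟨Q, -, hQD⟩ := FGS76.exists_sylow_between (p := q) (IsPGroup.of_bot)
          (bot_le : (⊥ : Subgroup G) ≤ D) hqD
        have hQle : (Q : Subgroup G) ≤ D ⊓ centralizer ({v} : Set G) :=
          le_inf hQD fun z hz => mem_centralizer_comm
            (hw q z hq hqp (isPEl_of_mem hq Q.2 hz) (hQD hz) hv)
        have h1 := Q.not_dvd_index
        refine h1 (dvd_trans ?_ (index_dvd_of_le hQle))
        rw [← relIndex_mul_index (inf_le_left : D ⊓ centralizer ({v} : Set G) ≤ D), h]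
        exact hqn.mul_right _
    have hab : ∀ v ∈ D, D ≤ centralizer ({v} : Set G) := by
      intro v hv z hz
      by_contra hcon
      have hvz : v ∉ centralizer ({z} : Set G) := fun h => hcon (mem_centralizer_comm h)
      obtain ⟨s, c, hs, ⟨i, hi⟩, hc, hcz⟩ := exists_primary_not_mem _ hvz
      have hcD : c ∈ D := hi ▸ pow_mem hv i
      by_cases hsp : s = p
      · exact hcz (mem_centralizer_comm (hall c hcD (hsp ▸ hc) hz))
      · exact hcz (mem_centralizer_comm (hw s c hs hsp hc hcD hz))
    exact mem_centralizer_singleton_iff.mp (hab b (hRD hb) (hRD ha))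

/-- In `C(x)` all relative class sizes divide `n`. -/
lemma relIndex_dvd {d : G} (hd : d ∈ centralizer ({x} : Set G)) :
    (centralizer ({d} : Set G)).relIndex (centralizer ({x} : Set G)) ∣ n := by
  classical
  haveI := Fact.mk hp
  set D := centralizer ({x} : Set G) with hD
  have hpn := H.not_dvd_n hp hpm
  have hstep : ∀ b ∈ D, ¬ p ∣ orderOf b →
      (D ⊓ centralizer ({b} : Set G)).relIndex D ∣ n := by
    intro b hb hbo
    rcases H.step hxm hb (hx.coprime_of_not_dvd hp hbo) with h | ⟨-, h⟩
    · rw [inf_eq_left.mpr h, relIndex_self]; exact one_dvd _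
    · exact dvd_of_eq h
  have hnd : ∀ e ∈ D, ¬ p ∣ (centralizer ({e} : Set G)).relIndex D := by
    intro e he
    obtain ⟨a, b, ⟨i, hi⟩, ⟨j, hj⟩, hab, ha, hb⟩ := FGS76.exists_split p e
    have haD : a ∈ D := hi ▸ pow_mem he i
    have hbD : b ∈ D := hj ▸ pow_mem he j
    have hcab : Commute a b := hi ▸ hj ▸ Commute.pow_pow_self e i j
    have hE : ¬ p ∣ ((centralizer ({b} : Set G)).subgroupOf D).index := fun h =>
      hpn (h.trans (by rw [← relIndex, ← inf_relIndex_left]; exact hstep b hbD hb))
    obtain ⟨R, haR, hRb⟩ := FGS76.exists_sylow_between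
      (FGS76.isPGroup_zpowers (g := (⟨a, haD⟩ : D))
        (by obtain ⟨k, hk⟩ := ha; exact ⟨k, by rw [orderOf_mk, hk]⟩))
      (zpowers_le.mpr (mem_subgroupOf.mpr (mem_centralizer_singleton_iff.mpr hcab.eq))) hE
    intro hdvd
    refine R.not_dvd_index (hdvd.trans (index_dvd_of_le fun z hz => mem_subgroupOf.mpr ?_))
    have hza : Commute (z : G) a := H.commute_of_pSubgroup hp hpm hx hxm
      ((R : Subgroup D).map D.subtype) (R.2.map _) (map_subtype_le _) ⟨z, hz, rfl⟩
      ⟨⟨a, haD⟩, haR (mem_zpowers _), rfl⟩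
    have hzb : Commute (z : G) b := mem_centralizer_singleton_iff.mp (mem_subgroupOf.mp (hRb hz))
    rw [← hab]
    exact mem_centralizer_singleton_iff.mpr (hza.mul_right hzb).eq
  obtain ⟨a, b, ⟨i, hi⟩, ⟨j, hj⟩, hab, ha, hb⟩ := FGS76.exists_split p d
  have hca := le_centralizer_of_forall_not_dvd hnd (hi ▸ pow_mem hd i : a ∈ D) ha
  refine dvd_trans ?_ (hstep b (hj ▸ pow_mem hd j) hb)
  rw [← inf_relIndex_left]
  refine relIndex_dvd_of_le_left _ (le_inf inf_le_left fun z hz => ?_)
  have h1 : Commute z a := mem_centralizer_singleton_iff.mp (hca hz.1)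
  have h2 : Commute z b := mem_centralizer_singleton_iff.mp hz.2
  rw [← hab]
  exact mem_centralizer_singleton_iff.mpr (h1.mul_right h2).eq

/-- Elements of prime power order `l`, `l ∣ m`, are central in `C(x)`. -/
lemma le_centralizer_of_dvd_m {l : ℕ} (hl : l.Prime) (hlm : l ∣ m) {a : G}
    (ha : a ∈ centralizer ({x} : Set G)) (hal : IsPEl l a) :
    centralizer ({x} : Set G) ≤ centralizer ({a} : Set G) :=
  haveI := Fact.mk hl
  le_centralizer_of_forall_not_dvd
    (fun _ hd h => H.not_dvd_n hl hlm (h.trans (H.relIndex_dvd hp hpm hx hxm hd))) ha hal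

/-- `C(x)` is abelian. -/
theorem commute_of_mem {a b : G} (ha : a ∈ centralizer ({x} : Set G))
    (hb : b ∈ centralizer ({x} : Set G)) : Commute a b := by
  classical
  haveI := Fact.mk hp
  set D := centralizer ({x} : Set G) with hD
  by_contra hcon
  have haz : a ∉ centralizer ({b} : Set G) := fun h => hcon (mem_centralizer_singleton_iff.mp h)
  obtain ⟨q, v, hq, ⟨i, hi⟩, hvq, hvb⟩ := exists_primary_not_mem _ haz
  haveI := Fact.mk hq
  have hvD : v ∈ D := hi ▸ pow_mem ha i
  have hvn : ¬ D ≤ centralizer ({v} : Set G) := fun h => hvb (mem_centralizer_comm (h hb))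
  have hqm : ¬ q ∣ m := fun h => hvn (H.le_centralizer_of_dvd_m hp hpm hx hxm hq h hvD hvq)
  have hqD : ¬ q ∣ D.index := hxm ▸ hqm
  have hvZ : v ∉ center G := fun h => hvn fun y _ =>
    mem_centralizer_singleton_iff.mpr (mem_center_iff.mp h y)
  have hqp : q ≠ p := fun h => hqm (h ▸ hpm)
  obtain ⟨hxv, -⟩ := (H.step hxm hvD (IsPEl.coprime hp hq hqp.symm hx hvq)).resolve_left hvn
  have hcxv : v ∈ centralizer ({x * v} : Set G) := by
    have hc : Commute x v := (mem_centralizer_singleton_iff.mp hvD).symm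
    exact mem_centralizer_singleton_iff.mpr ((hc.mul_left (Commute.refl v)).symm.eq)
  have hconjP : ∀ g : G, IsPEl p g → g ∉ center G → ∃ z : G, z * g * z⁻¹ ∈ D := by
    intro g hg hgZ
    obtain ⟨v₀, hv₀, hv₀q, hv₀Z⟩ := exists_noncentral_in (p := q) (g := g) (h := x * v) hcxv hvq
      hvZ (hxv.symm ▸ H.factorization_index_le g)
    obtain ⟨y, hy⟩ := exists_conj_mem hqD hv₀q
    set v' := y * v₀ * y⁻¹
    set g' := y * g * y⁻¹
    have hg'v : g' ∈ centralizer ({v'} : Set G) := by
      refine mem_centralizer_singleton_iff.mpr ?_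
      exact ((Commute.conj_iff y).mpr (mem_centralizer_singleton_iff.mp hv₀ : Commute v₀ g)).symm.eq
    have hv'Z : v' ∉ center G := fun h => hv₀Z (by
      simpa [v', mul_assoc] using (inferInstance : (center G).Normal).conj_mem v' h y⁻¹)
    have hnd : ¬ p ∣ (D ⊓ centralizer ({v'} : Set G)).relIndex (centralizer ({v'} : Set G)) := by
      obtain ⟨R⟩ : Nonempty (Sylow p D) := inferInstance
      set R' := (R : Subgroup D).map D.subtype
      have hR'le : R' ≤ D ⊓ centralizer ({v'} : Set G) := le_inf (map_subtype_le _) fun z hz =>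
        mem_centralizer_comm (H.le_centralizer_of_dvd_m hp hpm hx hxm hp hpm (map_subtype_le _ hz)
          (isPEl_of_mem hp (R.2.map _) hz) hy)
      have h1 : (Nat.card D).factorization p ≤
          (Nat.card ↥(D ⊓ centralizer ({v'} : Set G))).factorization p := by
        rw [← hp.pow_dvd_iff_le_factorization Nat.card_pos.ne']
        rw [← R.card_eq_multiplicity, ← card_map_of_injective (subtype_injective D)]
        exact card_dvd_of_le hR'le
      have h2 := factorization_card D p
      have h3 := factorization_card (centralizer ({v'} : Set G)) p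
      rw [hxm] at h2
      rw [H.factorization_index_of_dvd_m hp hpm hv'Z] at h3
      have h4 := ((D ⊓ centralizer ({v'} : Set G)).subgroupOf
        (centralizer ({v'} : Set G))).card_mul_index
      rw [Nat.card_congr (subgroupOfEquivOfLe inf_le_right).toEquiv] at h4
      have h5 := congrArg (fun k => k.factorization p) h4
      simp only [Nat.factorization_mul Nat.card_pos.ne' index_ne_zero_of_finite,
        Finsupp.add_apply] at h5
      intro hd
      have := hp.factorization_pos_of_dvd index_ne_zero_of_finite hd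
      omega
    obtain ⟨c, -, hc⟩ := exists_conj_le inf_le_right hnd
      (FGS76.isPGroup_zpowers (isPEl_conj y hg)) (zpowers_le.mpr hg'v)
    exact ⟨c * y, by simpa [g', mul_assoc] using (hc g' (mem_zpowers g')).1⟩
  have htop : D = ⊤ := by
    refine FGS76.eq_top_of_forall_exists_conj D fun g => ?_
    by_cases hg : g ∈ center G
    · exact ⟨1, by simpa using center_le_centralizer _ hg⟩
    obtain ⟨e, heg, hep, heZ⟩ := H.exists_noncentral_pEl_centralizing hp hpm g
    obtain ⟨z, hz⟩ := hconjP e hep heZ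
    have hz' : z * e * z⁻¹ ∉ center G := fun h => heZ (by
      simpa [mul_assoc] using (inferInstance : (center G).Normal).conj_mem _ h z⁻¹)
    have he' := H.index_eq_m_of_le hz' hxm
      (H.le_centralizer_of_dvd_m hp hpm hx hxm hp hpm hz (isPEl_conj z hep))
    refine ⟨z, he' ▸ mem_centralizer_singleton_iff.mpr ?_⟩
    exact ((Commute.conj_iff z).mpr (mem_centralizer_singleton_iff.mp heg : Commute e g)).symm.eq
  rw [htop, index_top] at hxm
  exact H.one_lt_m.ne hxm

end Hyp

end Cfsg.Agent.FGS80.ThreeSizes
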