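import Cfsg.Agent.FGS80.ThreeSizes.Abelian
import Cfsg.Agent.FGS80.FreeAction
import Cfsg.Agent.Lib.Thompson.PSolvable

/-!
# Class sizes `{1, m, m * n}`: an abelian centralizer `D` of index `m`
-/

namespace Cfsg.Agent.FGS80.ThreeSizes

open Subgroup

variable {G : Type*} [Group G] [Finite G] {m n : ℕ}

/-- `D` is an abelian centralizer of index `m`. -/
structure IsBase (D : Subgroup G) (m : ℕ) : Prop where
  index_eq : D.index = m
  comm : ∀ a ∈ D, ∀ b ∈ D, Commute a b
  center_le : center G ≤ D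
  exists_gen : ∃ x : G, x ∈ D ∧ x ∉ center G ∧ centralizer ({x} : Set G) = D

lemma Hyp.isBase (H : Hyp G m n) {p : ℕ} (hp : p.Prime) (hpm : p ∣ m) {x : G} (hx : IsPEl p x)
    (hxm : (centralizer ({x} : Set G)).index = m) : IsBase (centralizer ({x} : Set G)) m where
  index_eq := hxm
  comm _ ha _ hb := H.commute_of_mem hp hpm hx hxm ha hb
  center_le := center_le_centralizer _
  exists_gen := ⟨x, mem_centralizer_singleton_iff.mpr rfl, H.not_mem_center_of_m hxm, rfl⟩

namespace IsBase

variable {D : Subgroup G} (B : IsBase D m) (H : Hyp G m n)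
include B H

lemma centralizer_eq {d : G} (hd : d ∈ D) (hdZ : d ∉ center G) :
    centralizer ({d} : Set G) = D :=
  H.index_eq_m_of_le hdZ B.index_eq fun y hy =>
    mem_centralizer_singleton_iff.mpr (B.comm y hy d hd).eq

lemma exists_mem_pEl {l : ℕ} (hl : l.Prime) (hlmn : l ∣ m * n) :
    ∃ a ∈ D, IsPEl l a ∧ a ∉ center G := by
  haveI := Fact.mk hl
  by_cases hlm : l ∣ m
  · obtain ⟨x, -, -, hxD⟩ := B.exists_gen
    exact hxD ▸ H.exists_noncentral_pEl_centralizing hl hlm x
  · obtain ⟨w, hw, hwZ⟩ := H.exists_noncentral_pEl hl hlmn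
    obtain ⟨y, hy⟩ := exists_conj_mem (B.index_eq ▸ hlm) hw
    exact ⟨_, hy, isPEl_conj y hw, fun h => hwZ (by
      simpa [mul_assoc] using (inferInstance : (center G).Normal).conj_mem _ h y⁻¹)⟩

lemma conj_mem_of_m {g : G} (hg : (centralizer ({g} : Set G)).index = m) :
    ∃ z : G, z * g * z⁻¹ ∈ D := by
  obtain ⟨q, hq, hqn⟩ := Nat.exists_prime_and_dvd H.one_lt_n.ne'
  haveI := Fact.mk hq
  have hqm := H.not_dvd_m hq hqn
  obtain ⟨w, hw, hwZ⟩ := H.exists_noncentral_pEl hq (hqn.mul_left m)
  obtain ⟨v, hv, hvq, hvZ⟩ := exists_noncentral_in (g := g) (h := w)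
    (mem_centralizer_singleton_iff.mpr rfl) hw hwZ
    (by rw [hg, Nat.factorization_eq_zero_of_not_dvd hqm]; exact Nat.zero_le _)
  obtain ⟨y, hy⟩ := exists_conj_mem (B.index_eq ▸ hqm) hvq
  refine ⟨y, B.centralizer_eq H hy (fun h => hvZ (by
    simpa [mul_assoc] using (inferInstance : (center G).Normal).conj_mem _ h y⁻¹)) ▸ ?_⟩
  exact mem_centralizer_singleton_iff.mpr
    ((Commute.conj_iff y).mpr (mem_centralizer_singleton_iff.mp hv : Commute v g)).symm.eq

lemma mem_center_of_centralizes {w v : G} (hw : (centralizer ({w} : Set G)).index = m * n)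
    (hv : v ∈ D) (hvw : Commute v w) : v ∈ center G := by
  by_contra hvZ
  have hwD : w ∈ D := B.centralizer_eq H hv hvZ ▸ mem_centralizer_singleton_iff.mpr hvw.symm.eq
  have := B.centralizer_eq H hwD (H.not_mem_center_of_mn hw)
  rw [this, B.index_eq] at hw
  exact H.mn_ne_m hw.symm

lemma factorization_center {q : ℕ} (hq : q.Prime) (hqn : q ∣ n) :
    (center G).index.factorization q = n.factorization q := by
  haveI := Fact.mk hq
  have hqm := H.not_dvd_m hq hqn
  obtain ⟨w, hw⟩ := H.exists_mn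
  obtain ⟨S⟩ : Nonempty (Sylow q (centralizer ({w} : Set G))) := inferInstance
  set S' := (S : Subgroup _).map (centralizer ({w} : Set G)).subtype
  have hSZ : S' ≤ center G := fun v hv => by
    obtain ⟨y, hy⟩ := exists_conj_mem (B.index_eq ▸ hqm) (isPEl_of_mem hq (S.2.map _) hv)
    have hvw : Commute v w := mem_centralizer_singleton_iff.mp (map_subtype_le _ hv)
    have hw' : (centralizer ({y * w * y⁻¹} : Set G)).index = m * n := by
      rw [index_centralizer_conj, hw]
    have := B.mem_center_of_centralizes H hw' hy ((Commute.conj_iff y).mpr hvw)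
    simpa [mul_assoc] using (inferInstance : (center G).Normal).conj_mem _ this y⁻¹
  have h1 : (Nat.card (centralizer ({w} : Set G))).factorization q ≤
      (Nat.card (center G)).factorization q := by
    rw [← hq.pow_dvd_iff_le_factorization Nat.card_pos.ne', ← S.card_eq_multiplicity,
      ← card_map_of_injective (subtype_injective (centralizer ({w} : Set G)))]
    exact card_dvd_of_le hSZ
  have h2 : (Nat.card (center G)).factorization q ≤
      (Nat.card (centralizer ({w} : Set G))).factorization q :=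
    (Nat.factorization_le_iff_dvd Nat.card_pos.ne' Nat.card_pos.ne').mpr
      (card_dvd_of_le (center_le_centralizer _)) q
  have h3 := factorization_card (center G) q
  have h4 := factorization_card (centralizer ({w} : Set G)) q
  rw [hw, Nat.factorization_mul H.m_ne_zero H.n_ne_zero, Finsupp.add_apply,
    Nat.factorization_eq_zero_of_not_dvd hqm] at h4
  omega

lemma relIndex_center_sylow {q : ℕ} [Fact q.Prime] (hqn : q ∣ n) (Q : Sylow q G) :
    (center G).relIndex (Q : Subgroup G) = q ^ n.factorization q := by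
  have hq : q.Prime := Fact.out
  obtain ⟨e, -, he⟩ := (Nat.dvd_prime_pow hq).mp
    ((Subgroup.relIndex_dvd_card (center G) (Q : Subgroup G)).trans
      (dvd_of_eq Q.card_eq_multiplicity))
  have h1 := relIndex_mul_index (le_sup_left : center G ≤ center G ⊔ (Q : Subgroup G))
  rw [sup_comm, Subgroup.relIndex_sup_right, he] at h1
  have h2 : ¬ q ∣ ((Q : Subgroup G) ⊔ center G).index := fun h =>
    Q.not_dvd_index (h.trans (index_dvd_of_le le_sup_left))
  have h3 := congrArg (fun k => k.factorization q) h1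
  simp only [Nat.factorization_mul (pow_ne_zero e hq.ne_zero) index_ne_zero_of_finite,
    Finsupp.add_apply, hq.factorization_pow, Finsupp.single_eq_same,
    Nat.factorization_eq_zero_of_not_dvd h2, add_zero,
    B.factorization_center H hq hqn] at h3
  rw [he, h3]

lemma mem_normalizer_of_conj_mem {d g : G} (hd : d ∈ D) (hdZ : d ∉ center G)
    (hg : g * d * g⁻¹ ∈ D) : g ∈ normalizer (D : Set G) := by
  haveI : Finite (D : Set G) := Set.toFinite _
  refine Subgroup.mem_normalizer_fintype fun z hz => ?_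
  have hne : g * d * g⁻¹ ∉ center G := fun h => hdZ (by
    simpa [mul_assoc] using (inferInstance : (center G).Normal).conj_mem _ h g⁻¹)
  rw [SetLike.mem_coe, ← B.centralizer_eq H hg hne, mem_centralizer_singleton_iff]
  exact ((Commute.conj_iff g).mpr (B.comm z hz d hd)).eq

lemma conj_mem_of_mem_normalizer {g d : G} (hg : g ∈ normalizer (D : Set G)) (hd : d ∈ D) :
    g * d * g⁻¹ ∈ D := (mem_normalizer_iff.mp hg d).mp hd

omit H in
lemma relIndex_normalizer_dvd : D.relIndex (normalizer (D : Set G)) ∣ m :=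
  B.index_eq ▸ relIndex_dvd_index_of_le le_normalizer

omit H in
lemma mem_of_mem_normalizer {l : ℕ} (hl : l.Prime) (hlm : ¬ l ∣ m) {g : G}
    (hg : g ∈ normalizer (D : Set G)) (hgl : IsPEl l g) : g ∈ D := by
  haveI : (D.subgroupOf (normalizer (D : Set G))).Normal := inferInstance
  obtain ⟨k, hk⟩ := hgl
  set g' : normalizer (D : Set G) := ⟨g, hg⟩
  have h1 : orderOf (QuotientGroup.mk g' : _ ⧸ D.subgroupOf (normalizer (D : Set G))) ∣ l ^ k := by
    rw [← hk, ← orderOf_mk g hg]
    exact orderOf_map_dvd (QuotientGroup.mk' (D.subgroupOf (normalizer (D : Set G)))) g'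
  have h2 : orderOf (QuotientGroup.mk g' : _ ⧸ D.subgroupOf (normalizer (D : Set G))) ∣ m :=
    (_root_.orderOf_dvd_natCard _).trans (B.relIndex_normalizer_dvd)
  have := Nat.eq_one_of_dvd_coprimes ((hl.coprime_iff_not_dvd.mpr hlm).pow_left k) h1 h2
  rw [orderOf_eq_one_iff, QuotientGroup.eq_one_iff, mem_subgroupOf] at this
  exact this

/-- The number of conjugates of `D` is `1` modulo `n`. -/
lemma index_normalizer_modEq : (normalizer (D : Set G)).index ≡ 1 [MOD n] := by
  classical
  set N := normalizer (D : Set G) with hN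
  refine ((Nat.modEq_iff_dvd' (Nat.one_le_iff_ne_zero.mpr index_ne_zero_of_finite)).mpr ?_).symm
  refine (Nat.dvd_iff_prime_pow_dvd_dvd _ _).mpr fun q e hq he => ?_
  rcases e with - | e
  · simp
  haveI := Fact.mk hq
  have hqn : q ∣ n := (dvd_pow_self q (Nat.succ_ne_zero e)).trans he
  have hqm := H.not_dvd_m hq hqn
  obtain ⟨Q, -, hQD⟩ := FGS76.exists_sylow_between (p := q) IsPGroup.of_bot
    (bot_le : (⊥ : Subgroup G) ≤ D) (B.index_eq ▸ hqm)
  have hrel := B.relIndex_center_sylow H hqn Q
  have hdvd : q ^ (e + 1) ∣ q ^ n.factorization q :=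
    pow_dvd_pow q ((hq.pow_dvd_iff_le_factorization H.n_ne_zero).mp he)
  refine dvd_trans hdvd ?_
  -- orbits of `Q` on the cosets of `N`
  haveI := Fintype.ofFinite (MulAction.orbitRel.Quotient (Q : Subgroup G) (G ⧸ N))
  have hbase : ∀ y : (Q : Subgroup G), y • ((1 : G) : G ⧸ N) = ((1 : G) : G ⧸ N) := by
    intro y
    show ((y : G) • ((1 : G) : G ⧸ N)) = _
    rw [MulAction.Quotient.smul_coe, QuotientGroup.eq]
    simpa using inv_mem (le_normalizer (hQD y.2) : (y : G) ∈ N)
  set ω₀ : MulAction.orbitRel.Quotient (Q : Subgroup G) (G ⧸ N) := ⟦((1 : G) : G ⧸ N)⟧ with hω₀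
  have hcard : N.index = ∑ ω : MulAction.orbitRel.Quotient (Q : Subgroup G) (G ⧸ N),
      Nat.card ω.orbit := by
    rw [Subgroup.index, Nat.card_congr (MulAction.selfEquivSigmaOrbits' (Q : Subgroup G) (G ⧸ N)),
      Nat.card_sigma]
  have h0 : Nat.card ω₀.orbit = 1 := by
    have : ω₀.orbit = {((1 : G) : G ⧸ N)} := by
      rw [hω₀, MulAction.orbitRel.Quotient.orbit_mk]
      ext c
      simp [MulAction.mem_orbit_iff, hbase, eq_comm]
    rw [this]
    simp
  rw [hcard, ← Finset.add_sum_erase _ _ (Finset.mem_univ ω₀), h0, Nat.add_sub_cancel_left]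
  refine Finset.dvd_sum fun ω hω => ?_
  obtain ⟨c, rfl⟩ := Quotient.mk_surjective ω
  induction c using QuotientGroup.induction_on with
  | H g =>
    rw [MulAction.orbitRel.Quotient.orbit_mk, Nat.card_coe_set_eq,
      ← MulAction.index_stabilizer, ← hrel, relIndex]
    refine index_dvd_of_le fun y hy => ?_
    rw [MulAction.mem_stabilizer_iff] at hy
    change ((y : G) • (g : G ⧸ N)) = _ at hy
    rw [MulAction.Quotient.smul_coe, QuotientGroup.eq] at hy
    have hy' : g⁻¹ * y * g ∈ N := by
      have := inv_mem hy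
      simpa [mul_assoc] using this
    rw [mem_subgroupOf]
    have hyD : g⁻¹ * (y : G) * g ∈ D := B.mem_of_mem_normalizer hq hqm hy'
      (by simpa using isPEl_conj g⁻¹ (isPEl_of_mem hq Q.2 y.2))
    by_contra hyZ
    have hgN : g⁻¹ ∈ N := B.mem_normalizer_of_conj_mem H (hQD y.2) hyZ (by simpa using hyD)
    refine (Finset.ne_of_mem_erase hω) (congrArg _ ?_)
    exact QuotientGroup.eq.mpr (by simpa using hgN)

/-- A `p`-element of the normalizer outside `D` fixes only central elements of `D`. -/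
lemma modEq_card_inf_center {p : ℕ} [Fact p.Prime] {g : G} (hgp : IsPEl p g) (hgD : g ∉ D)
    (K : Subgroup G) (hKD : K ≤ D) (hgK : g ∈ normalizer (K : Set G)) :
    Nat.card K ≡ Nat.card ↥(K ⊓ center G) [MOD p] := by
  have hz : ∀ u : zpowers g, ∀ k ∈ K, (u : G) * k * (u : G)⁻¹ ∈ K := fun u k hk =>
    (mem_normalizer_iff.mp (zpowers_le.mpr hgK u.2) k).mp hk
  letI : MulAction (zpowers g) K :=
    { smul := fun u k => ⟨(u : G) * k * (u : G)⁻¹, hz u k k.2⟩
      one_smul := fun k => Subtype.ext (show (1 : G) * k * (1 : G)⁻¹ = k by simp)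
      mul_smul := fun u u' k => Subtype.ext (show ((u : G) * u') * k * ((u : G) * u')⁻¹ =
        (u : G) * ((u' : G) * k * (u' : G)⁻¹) * (u : G)⁻¹ by group) }
  refine ((FGS76.isPGroup_zpowers hgp).card_modEq_card_fixedPoints K).trans ?_
  have hfp : ∀ k : K, k ∈ MulAction.fixedPoints (zpowers g) K ↔ (k : G) ∈ center G := by
    intro k
    constructor
    · intro hk
      by_contra hkZ
      have h1 : g * k * g⁻¹ = k := congrArg Subtype.val (hk ⟨g, mem_zpowers g⟩)
      refine hgD (B.centralizer_eq H (hKD k.2) hkZ ▸ mem_centralizer_singleton_iff.mpr ?_)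
      exact mul_inv_eq_iff_eq_mul.mp h1
    · intro hk u
      exact Subtype.ext (show (u : G) * k * (u : G)⁻¹ = k by
        rw [mem_center_iff.mp hk (u : G), mul_inv_cancel_right])
  rw [show Nat.card (MulAction.fixedPoints (zpowers g) K) = Nat.card ↥(K ⊓ center G) from
    Nat.card_congr
      { toFun := fun k => ⟨(k.1 : G), k.1.2, (hfp k.1).mp k.2⟩
        invFun := fun k => ⟨⟨k.1, k.2.1⟩, (hfp _).mpr k.2.2⟩
        left_inv := fun _ => rfl
        right_inv := fun _ => rfl }]

end IsBase

end Cfsg.Agent.FGS80.ThreeSizes
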