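import Cfsg.Agent.FGS80.ThreeSizes.Normal
import Cfsg.Agent.Lib.Coprime.Action
import Mathlib.GroupTheory.Frattini
import Cfsg.Agent.Lib.PGroup.Basic

/-!
# Class sizes `{1, m, m * n}`: some `p`-element with `p ∣ m` has class size `m`

The negation of this leads to a contradiction: the centralizers of noncentral `q'`-elements are
abelian, so `G` is a `{p, q}`-group with normal Sylow `q`-subgroup, centralized by some noncentral
`p`-element.
-/

namespace Cfsg.Agent.FGS80.ThreeSizes

open Subgroup
open scoped commutatorElement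

/-- An element of prime order `r` cannot normalize a subgroup of prime order `a ≠ r`, when both
the `a`-part and the `b`-part are acted on freely. -/
lemma false_of_normalizes {F M : Type*} [Group F] [Finite F] [CommGroup M] [Finite M]
    (ρ : F →* MulAut M) (M₀ : Subgroup M) (hfix : ∀ f : F, ∀ v ∈ M₀, ρ f v = v)
    {a b r : ℕ} (ha : a.Prime) (hb : b.Prime) (hr : r.Prime) (hab : a ≠ b) (hra : r ≠ a)
    (hfa : FreeAction.FreeOn ρ M₀ a) (hma : FreeAction.Moves M₀ a)
    (hfb : FreeAction.FreeOn ρ M₀ b) (hmb : FreeAction.Moves M₀ b) {s c : F}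
    (hs : s ^ a = 1) (hs1 : s ≠ 1) (hc : c ^ r = 1) (hc1 : c ≠ 1)
    (hnorm : ∀ k ∈ zpowers s, c * k * c⁻¹ ∈ zpowers s) : False := by
  haveI := Fact.mk ha
  by_cases hcs : Commute s c
  · exact FreeAction.false_of_commute ρ M₀ hfix ha hr hra.symm hfa hma hs hs1 hc hc1 hcs
  set K := zpowers s with hK
  have hKc : Nat.card K = a := by rw [hK, Nat.card_zpowers, orderOf_eq_prime hs hs1]
  have hne : ∀ k ∈ K, c * k ≠ 1 := fun k hk h => by
    have hcK : c ∈ K := (eq_inv_of_mul_eq_one_left h) ▸ inv_mem hk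
    obtain ⟨i, rfl⟩ := hcK
    exact hcs (Commute.refl s |>.zpow_right i)
  have hord : ∀ k ∈ K, (c * k) ^ r = 1 := by
    intro k hk
    by_contra hne'
    -- the power lies in `K`
    have hcomm : ∀ i : ℕ, (c ^ i)⁻¹ * (c * k) ^ i ∈ K := by
      have hinv : ∀ x ∈ K, c⁻¹ * x * c ∈ K := by
        intro x hx
        let φ : K → K := fun y => ⟨c * y * c⁻¹, hnorm y y.2⟩
        have hφ : Function.Injective φ := fun y y' h => Subtype.ext (by
          simpa [φ] using congrArg Subtype.val h)
        obtain ⟨y, hy⟩ := (Finite.injective_iff_surjective.mp hφ) ⟨x, hx⟩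
        have : c * (y : F) * c⁻¹ = x := congrArg Subtype.val hy
        rw [← this]
        simp [mul_assoc]
      intro i
      induction i with
      | zero => simp
      | succ i ih =>
        have h := mul_mem (hinv _ ih) hk
        have heq : (c ^ (i + 1))⁻¹ * (c * k) ^ (i + 1) =
            c⁻¹ * ((c ^ i)⁻¹ * (c * k) ^ i) * c * k := by rw [pow_succ, pow_succ]; group
        rw [heq]; exact h
    have hmem : (c * k) ^ r ∈ K := by
      have := hcomm r
      rwa [hc, inv_one, one_mul] at this
    have hgen : K ≤ centralizer ({c * k} : Set F) := by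
      have hz : zpowers ((c * k) ^ r) = K := by
        refine Subgroup.eq_of_le_of_card_ge (zpowers_le.mpr hmem) ?_
        have h' : ((c * k) ^ r) ^ a = 1 := by
          have := congrArg Subtype.val (pow_card_eq_one' (x := (⟨_, hmem⟩ : K)))
          rw [hKc] at this
          simpa using this
        rw [hKc, Nat.card_zpowers, orderOf_eq_prime (p := a) h' hne']
      rw [← hz, zpowers_le, mem_centralizer_singleton_iff]
      exact ((Commute.refl (c * k)).pow_left r).eq
    refine hcs ?_
    have h1 : Commute s (c * k) := mem_centralizer_singleton_iff.mp (hgen (mem_zpowers s))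
    obtain ⟨i, rfl⟩ := hk
    have h2 : Commute s (s ^ i) := (Commute.refl s).zpow_right i
    simpa using h1.mul_right h2.inv_right
  obtain ⟨v, hv, hv0⟩ := hmb
  exact hv0 (FreeAction.mem_of_partition ρ M₀ hfix hb hr hfb K
    (by rw [hK, Ne, zpowers_eq_bot]; exact hs1)
    (by rw [hKc]; exact fun h => hab ((Nat.prime_dvd_prime_iff_eq hb ha).mp h).symm)
    c hnorm hne hord hv)

/-- A group acting freely on the `a`- and `b`-parts does not have order divisible by both. -/
lemma false_of_two_primes {F M : Type*} [Group F] [Finite F] [CommGroup M] [Finite M]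
    (ρ : F →* MulAut M) (M₀ : Subgroup M) (hfix : ∀ f : F, ∀ v ∈ M₀, ρ f v = v)
    {a b : ℕ} (ha : a.Prime) (hb : b.Prime) (hab : a ≠ b)
    (hfa : FreeAction.FreeOn ρ M₀ a) (hma : FreeAction.Moves M₀ a)
    (hfb : FreeAction.FreeOn ρ M₀ b) (hmb : FreeAction.Moves M₀ b)
    (haF : a ∣ Nat.card F) (hbF : b ∣ Nat.card F) : False := by
  haveI := Fact.mk ha
  haveI := Fact.mk hb
  obtain ⟨P⟩ : Nonempty (Sylow a F) := inferInstance
  have hPc : Nat.card (P : Subgroup F) = a := by
    refine le_antisymm (FreeAction.card_le_of_isPGroup ρ M₀ hfix ha hb hab hfa hma hfb hmb _ P.2) ?_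
    refine Nat.le_of_dvd Nat.card_pos ?_
    simpa using P.pow_dvd_card_of_pow_dvd_card (n := 1) (by simpa using haF)
  obtain ⟨s, hs⟩ := exists_prime_orderOf_dvd_card' a (dvd_of_eq hPc.symm : a ∣ Nat.card (P : Subgroup F))
  have hsP : zpowers (s : F) = (P : Subgroup F) :=
    Subgroup.eq_of_le_of_card_ge (zpowers_le.mpr s.2)
      (by rw [Nat.card_zpowers, orderOf_coe, hs, hPc])
  have hs1 : (s : F) ≠ 1 := fun h => ha.one_lt.ne' (by
    have h' := orderOf_coe s
    rw [h, orderOf_one, hs] at h'
    exact h'.symm)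
  have hsa : (s : F) ^ a = 1 := by
    have := pow_orderOf_eq_one (s : F)
    rwa [orderOf_coe, hs] at this
  have hNP : normalizer ((P : Subgroup F) : Set F) ≤ centralizer ((P : Subgroup F) : Set F) := by
    have hcard : ∀ r : ℕ, r.Prime → r ∣ Nat.card (normalizer ((P : Subgroup F) : Set F)) → r = a := by
      intro r hr hrd
      by_contra hra
      haveI := Fact.mk hr
      obtain ⟨c, hc⟩ := exists_prime_orderOf_dvd_card' r hrd
      refine false_of_normalizes ρ M₀ hfix ha hb hr hab hra hfa hma hfb hmb hsa hs1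
        (c := (c : F))
        (by have := pow_orderOf_eq_one (c : F); rwa [orderOf_coe, hc] at this)
        (fun h => hr.one_lt.ne' (by
          have h' := orderOf_coe c
          rw [h, orderOf_one, hc] at h'
          exact h'.symm)) ?_
      rw [hsP]
      exact fun k hk => (mem_normalizer_iff.mp c.2 k).mp hk
    have hpg : IsPGroup a (normalizer ((P : Subgroup F) : Set F)) :=
      IsPGroup.of_card (Nat.eq_prime_pow_of_unique_prime_dvd Nat.card_pos.ne'
        fun {d} hd hdd => hcard d hd hdd)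
    rw [P.3 hpg le_normalizer, ← hsP]
    exact fun x hx => mem_centralizer_iff.mpr fun y hy => by
      obtain ⟨i, rfl⟩ := hx
      obtain ⟨j, rfl⟩ := hy
      exact ((Commute.refl (s : F)).zpow_zpow j i).eq
  set K := (MonoidHom.transferSylow P hNP).ker
  have hcompl := MonoidHom.ker_transferSylow_isComplement' P hNP
  have hbK : b ∣ Nat.card K := by
    have := hcompl.card_mul ▸ hbF
    rw [hPc] at this
    exact (hb.dvd_mul.mp this).resolve_right fun h =>
      hab ((Nat.prime_dvd_prime_iff_eq hb ha).mp h).symm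
  obtain ⟨B⟩ : Nonempty (Sylow b K) := inferInstance
  set B' := (B : Subgroup K).map K.subtype
  have hB'c : Nat.card B' = b := by
    refine le_antisymm (FreeAction.card_le_of_isPGroup ρ M₀ hfix hb ha hab.symm hfb hmb hfa hma
      _ (B.2.map _)) ?_
    refine Nat.le_of_dvd Nat.card_pos ?_
    rw [card_map_of_injective (subtype_injective K)]
    simpa using B.pow_dvd_card_of_pow_dvd_card (n := 1) (by simpa using hbK)
  have hfr := Sylow.normalizer_sup_eq_top B
  have haN : a ∣ Nat.card (normalizer (B' : Set F)) := by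
    by_contra hnd
    have h1 : normalizer (B' : Set F) ≤ K := by
      intro x hx
      have hx' : ¬ a ∣ orderOf x := fun h => hnd (h.trans (Subgroup.orderOf_dvd_natCard _ hx))
      have h2 : orderOf (MonoidHom.transferSylow P hNP x) ∣ a :=
        (_root_.orderOf_dvd_natCard _).trans (dvd_of_eq hPc)
      rcases (Nat.dvd_prime ha).mp h2 with h | h
      · exact MonoidHom.mem_ker.mpr (orderOf_eq_one_iff.mp h)
      · exact absurd (h ▸ orderOf_map_dvd (MonoidHom.transferSylow P hNP) x) hx'
    rw [show normalizer (B' : Set F) ⊔ K = K from sup_eq_right.mpr h1] at hfr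
    have := hcompl.symm.index_eq_card
    rw [show (MonoidHom.transferSylow P hNP).ker = ⊤ from hfr, index_top, hPc] at this
    exact ha.one_lt.ne this
  obtain ⟨c, hc⟩ := exists_prime_orderOf_dvd_card' a haN
  obtain ⟨t, ht⟩ := exists_prime_orderOf_dvd_card' b (dvd_of_eq hB'c.symm : b ∣ Nat.card B')
  have htB : zpowers (t : F) = B' :=
    Subgroup.eq_of_le_of_card_ge (zpowers_le.mpr t.2)
      (by rw [Nat.card_zpowers, orderOf_coe, ht, hB'c])
  refine false_of_normalizes ρ M₀ hfix hb ha ha hab.symm hab hfb hmb hfa hma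
    (s := (t : F)) (c := (c : F))
    (by have := pow_orderOf_eq_one (t : F); rwa [orderOf_coe, ht] at this)
    (fun h => hb.one_lt.ne' (by
      have h' := orderOf_coe t
      rw [h, orderOf_one, ht] at h'
      exact h'.symm))
    (by have := pow_orderOf_eq_one (c : F); rwa [orderOf_coe, hc] at this)
    (fun h => ha.one_lt.ne' (by
      have h' := orderOf_coe c
      rw [h, orderOf_one, hc] at h'
      exact h'.symm)) ?_
  rw [htB]
  exact fun k hk => (mem_normalizer_iff.mp c.2 k).mp hk

variable {G : Type*} [Group G] [Finite G] {m n : ℕ}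

/-- If `p'`-elements of `C` are central in `C` and `p`-subgroups are abelian, `C` is abelian. -/
lemma commute_of_central_part {p : ℕ} [hp : Fact p.Prime] {C : Subgroup G}
    (hab : ∀ R : Subgroup G, IsPGroup p R → R ≤ C → ∀ a ∈ R, ∀ b ∈ R, Commute a b)
    (hcen : ∀ b ∈ C, ¬ p ∣ orderOf b → C ≤ centralizer ({b} : Set G)) :
    ∀ a ∈ C, ∀ b ∈ C, Commute a b := by
  have hnd : ∀ e ∈ C, ¬ p ∣ (centralizer ({e} : Set G)).relIndex C := by
    intro e he
    obtain ⟨a, b, ⟨i, hi⟩, ⟨j, hj⟩, hab', ha, hb⟩ := FGS76.exists_split p e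
    have haC : a ∈ C := hi ▸ pow_mem he i
    have hbC : b ∈ C := hj ▸ pow_mem he j
    obtain ⟨R, haR⟩ := (FGS76.isPGroup_zpowers (p := p) (g := (⟨a, haC⟩ : C))
      (by obtain ⟨k, hk⟩ := ha; exact ⟨k, by rw [orderOf_mk, hk]⟩)).exists_le_sylow
    intro hdvd
    refine R.not_dvd_index (hdvd.trans (index_dvd_of_le fun z hz => mem_subgroupOf.mpr ?_))
    have hza : Commute (z : G) a := hab ((R : Subgroup C).map C.subtype) (R.2.map _)
      (map_subtype_le _) _ ⟨z, hz, rfl⟩ _ ⟨⟨a, haC⟩, haR (mem_zpowers _), rfl⟩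
    have hzb : Commute (z : G) b := mem_centralizer_singleton_iff.mp (hcen b hbC hb z.2)
    rw [← hab']
    exact mem_centralizer_singleton_iff.mpr (hza.mul_right hzb).eq
  intro x hx y hy
  obtain ⟨a, b, ⟨i, hi⟩, ⟨j, hj⟩, hab', ha, hb⟩ := FGS76.exists_split p y
  have h1 : Commute x a := mem_centralizer_singleton_iff.mp
    (le_centralizer_of_forall_not_dvd hnd (hi ▸ pow_mem hy i : a ∈ C) ha hx)
  have h2 : Commute x b := mem_centralizer_singleton_iff.mp (hcen b (hj ▸ pow_mem hy j) hb hx)
  rw [← hab']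
  exact h1.mul_right h2

/-- A nonempty finite group of exponent `q` acted on by commuting operators: linear algebra
endgame. -/
lemma eq_of_fixed_union {P M : Type*} [Group P] [Finite P] [CommGroup M] (ψ : P →* MulAut M)
    (Z : Subgroup P) {p q : ℕ} [hp : Fact p.Prime] (hq : q.Prime) (hpq : p ≠ q)
    (hcomm : ∀ x y : P, x * y * x⁻¹ * y⁻¹ ∈ Z) (hidx : Z.index = p ^ 2)
    (hpow : ∀ x : P, x ^ p ∈ Z) (hZ : ∀ z ∈ Z, ∀ v : M, ψ z v = v) (hM : ∀ v : M, v ^ q = 1)
    (hcover : ∀ v : M, ∃ g : P, g ∉ Z ∧ ψ g v = v) : ∃ g : P, g ∉ Z ∧ ∀ v : M, ψ g v = v := by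
  classical
  haveI : Z.Normal := ⟨fun z hz x => by simpa using mul_mem (hcomm x z) hz⟩
  by_contra hcon
  push Not at hcon
  have key : ∀ (a b : P), a ∉ Z → b ∉ Z ⊔ zpowers a → ∀ v, ψ a v = v → ψ b v = v →
      ∀ x : P, ψ x v = v := by
    intro a b ha hb v hva hvb x
    let S : Subgroup P :=
      { carrier := {x | ψ x v = v}
        one_mem' := by simp
        mul_mem' := fun {x y} hx hy => by
          simp only [Set.mem_setOf_eq] at hx hy ⊢
          rw [map_mul, MulAut.mul_apply, hy, hx]
        inv_mem' := fun {x} hx => by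
          simp only [Set.mem_setOf_eq] at hx ⊢
          conv_lhs => rw [← hx]
          rw [← MulAut.mul_apply, ← map_mul, inv_mul_cancel, map_one]
          rfl }
    have hZa : Z ⊔ zpowers a ≤ S := sup_le (fun z hz => hZ z hz v) (zpowers_le.mpr hva)
    have h1 : Z.relIndex (Z ⊔ zpowers a) ≠ 1 := by
      rw [Ne, relIndex_eq_one]
      exact fun h => ha (h (mem_sup_right (mem_zpowers a)))
    have h2 : (Z ⊔ zpowers a).relIndex S ≠ 1 := by
      rw [Ne, relIndex_eq_one]
      exact fun h => hb (h hvb)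
    have h3 := relIndex_mul_relIndex Z (Z ⊔ zpowers a) S le_sup_left hZa
    have h4 := relIndex_mul_index (le_sup_left.trans hZa : Z ≤ S)
    rw [hidx, ← h3] at h4
    obtain ⟨i, -, hi⟩ := (Nat.dvd_prime_pow hp.out).mp
      ((Dvd.intro _ rfl).trans ((Dvd.intro _ rfl).trans (dvd_of_eq h4)) :
        Z.relIndex (Z ⊔ zpowers a) ∣ p ^ 2)
    obtain ⟨j, -, hj⟩ := (Nat.dvd_prime_pow hp.out).mp
      ((Dvd.intro_left _ rfl).trans ((Dvd.intro _ rfl).trans (dvd_of_eq h4)) :
        (Z ⊔ zpowers a).relIndex S ∣ p ^ 2)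
    obtain ⟨l, -, hl⟩ := (Nat.dvd_prime_pow hp.out).mp (Dvd.intro_left _ h4 : S.index ∣ p ^ 2)
    rw [hi, hj, hl, ← pow_add, ← pow_add] at h4
    have h5 := Nat.pow_right_injective hp.out.two_le h4
    have hi0 : i ≠ 0 := fun h => h1 (by rw [hi, h, pow_zero])
    have hj0 : j ≠ 0 := fun h => h2 (by rw [hj, h, pow_zero])
    have hl0 : l = 0 := by omega
    have hS : S = ⊤ := index_eq_one.mp (by rw [hl, hl0, pow_zero])
    exact (hS ▸ mem_top x : x ∈ S)
  -- an element not fixed by all of `P`
  obtain ⟨g₀, hg₀⟩ : ∃ g₀ : P, g₀ ∉ Z := by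
    obtain ⟨g, hg, -⟩ := hcover 1
    exact ⟨g, hg⟩
  obtain ⟨v₁, hv₁⟩ := hcon g₀ hg₀
  obtain ⟨a, ha, hva⟩ := hcover v₁
  obtain ⟨v₂, hv₂⟩ := hcon a ha
  obtain ⟨b, hb, hvb⟩ := hcover v₂
  have hfixset : ∀ (a : P) (v : M), ψ a v = v → ∀ x ∈ Z ⊔ zpowers a, ψ x v = v := by
    intro a v hv x hx
    obtain ⟨z, hz, w, ⟨i, rfl⟩, rfl⟩ :=
      (Subgroup.mem_sup_of_normal_left (s := Z) (t := zpowers a)).mp hx
    have hi : ψ (a ^ i) v = v := by
      have : a ∈ (MulAction.stabilizer (MulAut M) v).comap ψ := hv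
      exact (Subgroup.zpow_mem _ this i : a ^ i ∈ (MulAction.stabilizer (MulAut M) v).comap ψ)
    simp only
    rw [map_mul, MulAut.mul_apply, hi, hZ z hz]
  have hbA : b ∉ Z ⊔ zpowers a := fun h => by
    -- then `b` and `a` have the same fixed points
    have hab : a ∈ Z ⊔ zpowers b := by
      have hle : Z ⊔ zpowers b ≤ Z ⊔ zpowers a := sup_le le_sup_left (zpowers_le.mpr h)
      have h1 : Z.relIndex (Z ⊔ zpowers a) ≤ p := by
        rw [sup_comm, Subgroup.relIndex_sup_right, relIndex]
        have hd : (Z.subgroupOf (zpowers a)).index ∣ p := by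
          haveI : Nontrivial (zpowers a) := (nontrivial_iff_ne_bot _).mpr
            (by rw [Ne, zpowers_eq_bot]; exact fun h => ha (h ▸ one_mem Z))
          have hc : Nat.card (zpowers a ⧸ Z.subgroupOf (zpowers a)) =
              orderOf (QuotientGroup.mk (⟨a, mem_zpowers a⟩ : zpowers a) :
                zpowers a ⧸ Z.subgroupOf (zpowers a)) := by
            rw [← Nat.card_zpowers]
            refine (Nat.card_congr (Equiv.subtypeUnivEquiv fun x => ?_)).symm
            induction x using QuotientGroup.induction_on with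
            | H x =>
              obtain ⟨_, i, rfl⟩ := x
              exact ⟨i, by simp only [← QuotientGroup.mk_zpow]; rfl⟩
          rw [Subgroup.index, hc]
          refine orderOf_dvd_of_pow_eq_one ?_
          rw [← QuotientGroup.mk_pow, QuotientGroup.eq_one_iff, mem_subgroupOf]
          exact hpow a
        exact Nat.le_of_dvd hp.out.pos hd
      have h2 := relIndex_mul_relIndex Z (Z ⊔ zpowers b) (Z ⊔ zpowers a) le_sup_left hle
      have h3 : 2 ≤ Z.relIndex (Z ⊔ zpowers b) := by
        have hne : Z.relIndex (Z ⊔ zpowers b) ≠ 1 := by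
          rw [Ne, relIndex_eq_one]
          exact fun h => hb (h (mem_sup_right (mem_zpowers b)))
        have hdvd : Z.relIndex (Z ⊔ zpowers b) ∣ p ^ 2 := hidx ▸ relIndex_dvd_index_of_normal Z _
        obtain ⟨i, -, hi⟩ := (Nat.dvd_prime_pow hp.out).mp hdvd
        have : i ≠ 0 := fun h => hne (by rw [hi, h, pow_zero])
        rw [hi]
        exact le_trans hp.out.two_le (Nat.le_self_pow this p)
      have h4 : p ≤ Z.relIndex (Z ⊔ zpowers b) := by
        have hdvd : Z.relIndex (Z ⊔ zpowers b) ∣ p ^ 2 := hidx ▸ relIndex_dvd_index_of_normal Z _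
        obtain ⟨i, -, hi⟩ := (Nat.dvd_prime_pow hp.out).mp hdvd
        rw [hi] at h3 ⊢
        rcases i with - | i
        · simp at h3
        · exact Nat.le_self_pow (Nat.succ_ne_zero i) p
      have h5 : (Z ⊔ zpowers b).relIndex (Z ⊔ zpowers a) ≤ 1 := by
        by_contra h6
        push Not at h6
        have := Nat.mul_le_mul h4 h6
        have := hp.out.two_le
        omega
      have h7 : (Z ⊔ zpowers b).relIndex (Z ⊔ zpowers a) = 1 := by
        have := Nat.pos_of_ne_zero (index_ne_zero_of_finite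
          (H := (Z ⊔ zpowers b).subgroupOf (Z ⊔ zpowers a)))
        rw [relIndex] at h5 ⊢
        omega
      exact relIndex_eq_one.mp h7 (mem_sup_right (mem_zpowers a))
    exact hv₂ (hfixset b v₂ hvb a hab)
  have hall : ∀ v, ψ a v = v → ψ b v = v → ∀ x, ψ x v = v := fun v h1 h2 => key a b ha hbA v h1 h2
  obtain ⟨c, hc, hvc⟩ := hcover (v₁ * v₂)
  rw [map_mul] at hvc
  by_cases hca : c ∈ Z ⊔ zpowers a
  · have h1 : ψ c v₁ = v₁ := hfixset a v₁ hva c hca
    rw [h1, mul_right_inj] at hvc
    by_cases hcb : b ∈ Z ⊔ zpowers c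
    · exact hbA ((sup_le le_sup_left (zpowers_le.mpr hca) : Z ⊔ zpowers c ≤ Z ⊔ zpowers a) hcb)
    · exact hv₂ (key c b hc hcb v₂ hvc hvb a)
  -- commuting operators
  have hcomψ : ∀ (x y : P) (v : M), ψ x (ψ y v) = ψ y (ψ x v) := by
    intro x y v
    have h1 : x * y = x * y * x⁻¹ * y⁻¹ * (y * x) := by group
    rw [← MulAut.mul_apply, ← map_mul, h1, map_mul, MulAut.mul_apply, hZ _ (hcomm x y),
      map_mul, MulAut.mul_apply]
  obtain ⟨z, hz⟩ : ∃ z, ψ c v₁ * v₁⁻¹ = z := ⟨_, rfl⟩
  have hz2 : z = v₂ * (ψ c v₂)⁻¹ := by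
    rw [← hz, eq_mul_inv_iff_mul_eq, mul_right_comm, hvc, mul_comm, inv_mul_cancel_left]
  have hza : ψ a z = z := by rw [← hz, map_mul, map_inv, hcomψ a c, hva]
  have hzb : ψ b z = z := by rw [hz2, map_mul, map_inv, hcomψ b c, hvb]
  have hzall := hall z hza hzb
  have h1 : ψ c v₁ = z * v₁ := by rw [← hz, inv_mul_cancel_right]
  have hpow' : ∀ i : ℕ, ψ (c ^ i) v₁ = z ^ i * v₁ := by
    intro i
    induction i with
    | zero => simp
    | succ i ih =>
      rw [pow_succ, map_mul, MulAut.mul_apply, h1, map_mul, hzall, ih, pow_succ', mul_assoc]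
  have hzp : z ^ p = 1 := by
    have h2 := hpow' p
    rw [hZ _ (hpow c) v₁] at h2
    exact mul_eq_right.mp h2.symm
  have hz1 : z = 1 := orderOf_eq_one_iff.mp (Nat.eq_one_of_dvd_coprimes
    ((Nat.coprime_primes hp.out hq).mpr hpq) (orderOf_dvd_of_pow_eq_one hzp)
    (orderOf_dvd_of_pow_eq_one (hM z)))
  rw [hz1, one_mul] at h1
  exact hv₁ (key a c ha hca v₁ hva h1 g₀)

namespace Hyp

variable (H : Hyp G m n)
include H

/-- Some `p`-element, `p ∣ m`, has class size `m`. -/
theorem exists_pi_point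
    (hdf : ∀ A B : Subgroup G, A.Normal → B.Normal → A ⊓ B = ⊥ → A ⊔ B = ⊤ →
      IsMulCommutative A → A = ⊥) :
    ∃ (p : ℕ) (x : G), p.Prime ∧ p ∣ m ∧ IsPEl p x ∧ (centralizer ({x} : Set G)).index = m := by
  classical
  by_contra hcon
  push Not at hcon
  have hII : ∀ {p : ℕ}, p.Prime → p ∣ m → ∀ {w : G}, IsPEl p w → w ∉ center G →
      (centralizer ({w} : Set G)).index = m * n := fun hp hpm w hw hwZ =>
    (H.cases2 hwZ).resolve_left (hcon _ w hp hpm hw)
  obtain ⟨g₀, hg₀⟩ := H.exists_m
  obtain ⟨q, u, hq, ⟨i₀, hi₀⟩, huq, huZ⟩ :=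
    exists_primary_not_mem (center G) (H.not_mem_center_of_m hg₀)
  haveI := Fact.mk hq
  have hum : (centralizer ({u} : Set G)).index = m := by
    rw [H.index_eq_m_of_le huZ hg₀ (hi₀ ▸ centralizer_le_pow g₀ i₀), hg₀]
  have hqm : ¬ q ∣ m := fun h => hcon q u hq h huq hum
  have hqn : q ∣ n := by
    have hd : q ∣ Nat.card G := by
      obtain ⟨k, hk⟩ := huq
      rcases k with - | k
      · exact absurd (orderOf_eq_one_iff.mp (by simpa using hk)) fun h => huZ (by rw [h]; exact one_mem _)
      · exact (dvd_pow_self q (Nat.succ_ne_zero k)).trans (hk ▸ _root_.orderOf_dvd_natCard u)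
    exact (hq.dvd_mul.mp (H.dvd_of_dvd_card hdf hq hd)).resolve_left hqm
  obtain ⟨p, hp, hpm⟩ := Nat.exists_prime_and_dvd H.one_lt_m.ne'
  haveI := Fact.mk hp
  have hpq : p ≠ q := fun h => hqm (h ▸ hpm)
  have hpn := H.not_dvd_n hp hpm
  set D := centralizer ({u} : Set G) with hD
  -- abelian centralizers of noncentral elements of order a power of a prime dividing `m`
  have habP : ∀ {l : ℕ}, l.Prime → l ∣ m → ∀ {w : G}, IsPEl l w → w ∉ center G →
      (∀ a ∈ centralizer ({w} : Set G), ∀ b ∈ centralizer ({w} : Set G), Commute a b) ∧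
      ∃ e ∈ centralizer ({w} : Set G), IsPEl q e ∧ e ∉ center G := by
    intro l hl hlm w hw hwZ
    haveI := Fact.mk hl
    have hwmn := hII hl hlm hw hwZ
    have hlq : l ≠ q := fun h => hqm (h ▸ hlm)
    obtain ⟨w₁, hw₁, hw₁l, hw₁Z⟩ := H.exists_noncentral_pEl_centralizing hl hlm u
    obtain ⟨e, he, heq, heZ⟩ := exists_noncentral_in (p := q) (g := w) (h := w₁)
      (mem_centralizer_comm hw₁) huq huZ (by rw [hII hl hlm hw₁l hw₁Z, hwmn])
    refine ⟨?_, e, he, heq, heZ⟩
    have hew : Commute w e := (mem_centralizer_singleton_iff.mp he).symm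
    have hcop := IsPEl.coprime hl hq hlq hw heq
    have hle : centralizer ({w} : Set G) ≤ centralizer ({e} : Set G) := H.le_of_mn hwmn hew hcop
    refine commute_of_central_part (p := l) (fun R hR hRC a ha b hb => ?_) fun b hb hbo => ?_
    · rcases H.cases2 heZ with hem | hemn
      · exact H.commute_of_m hq hl hlq (H.not_dvd_n hl hlm) heq hem R hR (hRC.trans hle) ha hb
      · have hbC := hle (hRC hb)
        exact mem_centralizer_singleton_iff.mp (H.le_of_mn hemn
          ((mem_centralizer_singleton_iff.mp hbC).symm)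
          (IsPEl.coprime hq hl hlq.symm heq (isPEl_of_mem hl hR hb)) (hle (hRC ha)))
    · exact H.le_of_mn hwmn (mem_centralizer_singleton_iff.mp hb).symm
        (hw.coprime_of_not_dvd hl hbo)
  obtain ⟨w₁, hw₁D, hw₁p, hw₁Z⟩ := H.exists_noncentral_pEl_centralizing hp hpm u
  -- noncentral `r`-elements for `r ∣ n`, `r ≠ q`
  have hgood : ∀ {r : ℕ}, r.Prime → r ≠ q → r ∣ m * n → ∀ {y : G}, IsPEl r y → y ∉ center G →
      (centralizer ({y} : Set G)).index = m * n ∧
      (∀ a ∈ centralizer ({y} : Set G), ∀ b ∈ centralizer ({y} : Set G), Commute a b) := by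
    intro r hr hrq hrmn y hy hyZ
    haveI := Fact.mk hr
    by_cases hrm : r ∣ m
    · exact ⟨hII hr hrm hy hyZ, (habP hr hrm hy hyZ).1⟩
    have hrn : r ∣ n := (hr.dvd_mul.mp hrmn).resolve_left hrm
    have hrp : r ≠ p := fun h => hrm (h ▸ hpm)
    have hymn : (centralizer ({y} : Set G)).index = m * n := by
      refine (H.cases2 hyZ).resolve_left fun hym => ?_
      obtain ⟨R, -, hRC⟩ := FGS76.exists_sylow_between (p := r) IsPGroup.of_bot
        (bot_le : (⊥ : Subgroup G) ≤ centralizer ({y} : Set G)) (hym ▸ hrm)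
      have hyR : y ∈ (R : Subgroup G) := by
        have hle : zpowers y ≤ normalizer ((R : Subgroup G) : Set G) :=
          (zpowers_le.mpr (mem_centralizer_iff.mpr fun z hz =>
            mem_centralizer_singleton_iff.mp (hRC hz))).trans (centralizer_le_normalizer _)
        have hsup := IsPGroup.to_sup_of_normal_right' (FGS76.isPGroup_zpowers hy) R.2 hle
        exact (R.3 hsup le_sup_right) ▸ mem_sup_left (mem_zpowers _)
      obtain ⟨R₁, -, hR₁D⟩ := FGS76.exists_sylow_between (p := r) IsPGroup.of_bot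
        (bot_le : (⊥ : Subgroup G) ≤ D) (hum ▸ hrm)
      obtain ⟨g, hg⟩ := MulAction.exists_smul_eq G R R₁
      set y' := g * y * g⁻¹ with hy'
      have hy'R₁ : y' ∈ (R₁ : Subgroup G) := by
        rw [← hg, Sylow.coe_subgroup_smul]
        exact ⟨y, hyR, rfl⟩
      have hR₁y : (R₁ : Subgroup G) ≤ centralizer ({y'} : Set G) := by
        rw [← hg, Sylow.coe_subgroup_smul]
        rintro _ ⟨z, hz, rfl⟩
        exact mem_centralizer_singleton_iff.mpr
          ((Commute.conj_iff g).mpr (mem_centralizer_singleton_iff.mp (hRC hz))).eq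
      have hy'r : IsPEl r y' := isPEl_conj g hy
      have hy'm : (centralizer ({y'} : Set G)).index = m := by rw [index_centralizer_conj, hym]
      have hDy : centralizer ({y'} : Set G) = D := by
        refine H.index_eq_m_of_le (H.not_mem_center_of_m hy'm) hum ?_
        rcases H.step hum (hR₁D hy'R₁) (IsPEl.coprime hq hr hrq.symm huq hy'r) with h | ⟨-, h⟩
        · exact h
        · exfalso
          refine R₁.not_dvd_index (dvd_trans ?_ (index_dvd_of_le (le_inf hR₁D hR₁y)))
          rw [← relIndex_mul_index (inf_le_left : D ⊓ centralizer ({y'} : Set G) ≤ D), h]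
          exact hrn.mul_right _
      -- the `p`-part of `D` would be central in `D`
      have hnd : ∀ d ∈ D, ¬ p ∣ (centralizer ({d} : Set G)).relIndex D := by
        intro d hd
        obtain ⟨a, b, ⟨i, hi⟩, ⟨j, hj⟩, hab', ha, hb⟩ := FGS76.exists_split p d
        have haD : a ∈ D := hi ▸ pow_mem hd i
        have hbD : b ∈ D := hj ▸ pow_mem hd j
        have hcab : Commute a b := hi ▸ hj ▸ Commute.pow_pow_self d i j
        have hbrel : (D ⊓ centralizer ({b} : Set G)).relIndex D ∣ n := by
          obtain ⟨b₁, b₂, ⟨i₁, hi₁⟩, ⟨i₂, hi₂⟩, hb12, hb₁, hb₂⟩ := FGS76.exists_split q b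
          have hb₁D : b₁ ∈ D := hi₁ ▸ pow_mem hbD i₁
          have hb₂D : b₂ ∈ D := hi₂ ▸ pow_mem hbD i₂
          have hc12 : Commute b₁ b₂ := hi₁ ▸ hi₂ ▸ Commute.pow_pow_self b i₁ i₂
          have hcb : D ⊓ centralizer ({b} : Set G) =
              D ⊓ (centralizer ({b₁} : Set G) ⊓ centralizer ({b₂} : Set G)) := by
            rw [← hb12, centralizer_mul hc12 (IsPEl.coprime_of_not_dvd hq hb₁ hb₂)]
          rcases H.step hum hb₂D (huq.coprime_of_not_dvd hq hb₂) with h | ⟨hmn, h⟩
          · have hcop := IsPEl.coprime hr hq hrq hy'r hb₁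
            have heq' : D ⊓ centralizer ({b} : Set G) = D ⊓ centralizer ({b₁} : Set G) := by
              rw [hcb, ← inf_assoc]; exact inf_eq_left.mpr (inf_le_left.trans h)
            rw [heq']
            rcases H.step hy'm (hDy.symm ▸ hb₁D) hcop with h' | ⟨-, h'⟩
            · rw [hDy] at h'
              rw [inf_eq_left.mpr h', relIndex_self]; exact one_dvd _
            · rw [hDy] at h'
              exact dvd_of_eq h'
          · have hub : Commute u b₂ := (mem_centralizer_singleton_iff.mp hb₂D).symm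
            have hcop2 := huq.coprime_of_not_dvd hq hb₂
            obtain ⟨w, hw, hwp, hwZ⟩ := H.exists_noncentral_pEl_centralizing hp hpm (u * b₂)
            have hwE : centralizer ({w} : Set G) = centralizer ({u * b₂} : Set G) := by
              have hb₂p : ¬ p ∣ orderOf b₂ := fun h => hb (h.trans (hi₂ ▸ orderOf_pow_dvd i₂))
              have hcop3 : (orderOf w).Coprime (orderOf (u * b₂)) := by
                refine hwp.coprime_of_not_dvd hp fun h => ?_
                rw [hub.orderOf_mul_eq_mul_orderOf_of_coprime hcop2] at h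
                rcases hp.dvd_mul.mp h with h | h
                · obtain ⟨k, hk⟩ := huq
                  exact hpq ((Nat.prime_dvd_prime_iff_eq hp hq).mp (hp.dvd_of_dvd_pow (hk ▸ h)))
                · exact hb₂p h
              exact eq_of_le_of_index_eq (H.le_of_mn (hII hp hpm hwp hwZ)
                (mem_centralizer_singleton_iff.mp hw) hcop3) ((hII hp hpm hwp hwZ).trans hmn.symm)
            have hb₁E : b₁ ∈ centralizer ({u * b₂} : Set G) :=
              mem_centralizer_singleton_iff.mpr
                ((Commute.mul_right (mem_centralizer_singleton_iff.mp hb₁D) hc12).eq)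
            have hle : D ⊓ centralizer ({b₂} : Set G) ≤ centralizer ({b₁} : Set G) := fun z hz => by
              rw [← centralizer_mul hub hcop2, ← hwE] at hz
              exact mem_centralizer_singleton_iff.mpr
                ((habP hp hpm hwp hwZ).1 z hz b₁ (hwE ▸ hb₁E)).eq
            have heq' : D ⊓ centralizer ({b} : Set G) = D ⊓ centralizer ({b₂} : Set G) := by
              rw [hcb]
              exact le_antisymm (le_inf inf_le_left (inf_le_right.trans inf_le_right))
                (le_inf inf_le_left (le_inf hle inf_le_right))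
            rw [heq']
            exact dvd_of_eq h
        have hE : ¬ p ∣ ((centralizer ({b} : Set G)).subgroupOf D).index := fun h =>
          hpn (h.trans (by rw [← relIndex, ← inf_relIndex_left]; exact hbrel))
        obtain ⟨S, haS, hSb⟩ := FGS76.exists_sylow_between
          (FGS76.isPGroup_zpowers (g := (⟨a, haD⟩ : D))
            (by obtain ⟨k, hk⟩ := ha; exact ⟨k, by rw [orderOf_mk, hk]⟩))
          (zpowers_le.mpr (mem_subgroupOf.mpr (mem_centralizer_singleton_iff.mpr hcab.eq))) hE
        intro hdvd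
        refine S.not_dvd_index (hdvd.trans (index_dvd_of_le fun z hz => mem_subgroupOf.mpr ?_))
        have hza : Commute (z : G) a := H.commute_of_m hq hp hpq hpn huq hum
          ((S : Subgroup D).map D.subtype) (S.2.map _) (map_subtype_le _) ⟨z, hz, rfl⟩
          ⟨⟨a, haD⟩, haS (mem_zpowers _), rfl⟩
        have hzb : Commute (z : G) b :=
          mem_centralizer_singleton_iff.mp (mem_subgroupOf.mp (hSb hz))
        rw [← hab']
        exact mem_centralizer_singleton_iff.mpr (hza.mul_right hzb).eq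
      have h1 := H.index_eq_m_of_le hw₁Z hum (le_centralizer_of_forall_not_dvd hnd hw₁D hw₁p)
      have h2 := hII hp hpm hw₁p hw₁Z
      rw [h1, hum] at h2
      exact H.mn_ne_m h2.symm
    obtain ⟨w, hw, hwp, hwZ⟩ := H.exists_noncentral_pEl_centralizing hp hpm y
    have hwy : Commute w y := mem_centralizer_singleton_iff.mp hw
    have heq' : centralizer ({w} : Set G) = centralizer ({y} : Set G) :=
      eq_of_le_of_index_eq (H.le_of_mn (hII hp hpm hwp hwZ) hwy
        (IsPEl.coprime hp hr hrp.symm hwp hy)) ((hII hp hpm hwp hwZ).trans hymn.symm)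
    exact ⟨hymn, heq' ▸ (habP hp hpm hwp hwZ).1⟩
  -- the centralizer of a good element
  have hEeq : ∀ {r : ℕ}, r.Prime → r ≠ q → r ∣ m * n → ∀ {y : G}, IsPEl r y → y ∉ center G →
      ∀ {r' : ℕ}, r'.Prime → r' ≠ q → r' ∣ m * n → ∀ {y' : G}, IsPEl r' y' → y' ∉ center G →
      y' ∈ centralizer ({y} : Set G) →
      centralizer ({y'} : Set G) = centralizer ({y} : Set G) := by
    intro r hr hrq hrd y hy hyZ r' hr' hrq' hrd' y' hy' hyZ' hmem
    obtain ⟨h1, h2⟩ := hgood hr hrq hrd hy hyZ
    obtain ⟨h1', -⟩ := hgood hr' hrq' hrd' hy' hyZ'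
    exact (eq_of_le_of_index_eq (fun z hz => mem_centralizer_singleton_iff.mpr (h2 z hz y' hmem).eq)
      (h1.trans h1'.symm)).symm
  obtain ⟨y₀, hy₀D, hy₀p, hy₀Z⟩ := H.exists_noncentral_pEl_centralizing hp hpm u
  -- every prime `≠ q` dividing `m * n` equals `p`
  have hprime : ∀ {r : ℕ}, r.Prime → r ∣ m * n → r = p ∨ r = q := by
    intro r hr hrd
    by_contra hne
    push Not at hne
    obtain ⟨hrp, hrq⟩ := hne
    set E := centralizer ({y₀} : Set G) with hE
    obtain ⟨hy₀mn, hEab⟩ := hgood hp hpq (hpm.mul_right n) hy₀p hy₀Z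
    set N := normalizer (E : Set G) with hN
    set E' := E.subgroupOf N
    haveI : E'.Normal := inferInstance
    letI : CommGroup E' := { (inferInstance : Group E') with
      mul_comm := fun a b => Subtype.ext (Subtype.ext (hEab _ a.2 _ b.2).eq) }
    let ρ : (N ⧸ E') →* MulAut E' := QuotientGroup.lift E' (MulAut.conjNormal (H := E'))
      (fun x hx => MonoidHom.mem_ker.mpr (MulEquiv.ext fun y => Subtype.ext (Subtype.ext (by
        simp only [MulAut.conjNormal_apply, MulAut.one_apply, Subgroup.coe_mul, InvMemClass.coe_inv]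
        rw [(hEab (x : G) hx ((y : N) : G) y.2).eq, mul_inv_cancel_right]))))
    let M₀ : Subgroup E' := (center G).comap (N.subtype.comp E'.subtype)
    have hρ : ∀ (g : N) (v : E'), (((ρ (g : N ⧸ E') v : E') : N) : G) =
        (g : G) * ((v : N) : G) * (g : G)⁻¹ := fun g v => by simp [ρ, MulAut.conjNormal_apply]
    have hfix : ∀ f, ∀ v ∈ M₀, ρ f v = v := by
      intro f v hv
      induction f using QuotientGroup.induction_on with
      | H g =>
        refine Subtype.ext (Subtype.ext ?_)
        rw [hρ]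
        have hv' : ((v : N) : G) ∈ center G := hv
        rw [mem_center_iff.mp hv' g, mul_inv_cancel_right]
    have key : ∀ {l : ℕ}, l.Prime → l ≠ q → l ∣ m * n →
        FreeAction.FreeOn ρ M₀ l ∧ FreeAction.Moves M₀ l ∧ l ∣ Nat.card (N ⧸ E') := by
      intro l hl hlq hld
      haveI := Fact.mk hl
      refine ⟨?_, ?_⟩
      · intro f hf v hvl hv
        induction f using QuotientGroup.induction_on with
        | H g =>
          by_contra hvZ
          have hvl' : IsPEl l ((v : N) : G) := by
            obtain ⟨k, hk⟩ := hvl; exact ⟨k, by rw [orderOf_coe, orderOf_coe, hk]⟩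
          have hCv := hEeq hp hpq (hpm.mul_right n) hy₀p hy₀Z hl hlq hld hvl' hvZ v.2
          have h1 : (g : G) * ((v : N) : G) * (g : G)⁻¹ = ((v : N) : G) := by rw [← hρ, hv]
          refine hf ((QuotientGroup.eq_one_iff g).mpr ?_)
          show (g : G) ∈ E
          rw [hE, ← hCv, mem_centralizer_singleton_iff]
          exact mul_inv_eq_iff_eq_mul.mp h1
      obtain ⟨z, hz, hzZ⟩ := H.exists_noncentral_pEl hl hld
      obtain ⟨hzmn, -⟩ := hgood hl hlq hld hz hzZ
      obtain ⟨a, haE, hal, haZ⟩ := exists_noncentral_in (g := y₀) (h := z)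
        (mem_centralizer_singleton_iff.mpr rfl) hz hzZ (by rw [hy₀mn, hzmn])
      refine ⟨⟨⟨⟨a, le_normalizer haE⟩, haE⟩, ?_, haZ⟩, ?_⟩
      · obtain ⟨k, hk⟩ := hal; exact ⟨k, by rw [← hk, ← orderOf_coe, ← orderOf_coe]⟩
      obtain ⟨S⟩ : Nonempty (Sylow l E) := inferInstance
      set S' := (S : Subgroup E).map E.subtype
      obtain ⟨P, hP⟩ := (S.2.map E.subtype : IsPGroup l S').exists_le_sylow
      have hlt : Nat.card S' < Nat.card (P : Subgroup G) := by
        rw [card_map_of_injective (subtype_injective E), S.card_eq_multiplicity,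
          P.card_eq_multiplicity]
        refine Nat.pow_lt_pow_right hl.one_lt ?_
        have h1 := factorization_card E l
        rw [hy₀mn] at h1
        have h2 := hl.factorization_pos_of_dvd (Nat.mul_ne_zero H.m_ne_zero H.n_ne_zero) hld
        omega
      haveI := P.2.isNilpotent
      have hlt' : S'.subgroupOf P < ⊤ := lt_of_le_of_ne le_top fun h => hlt.ne
        (congrArg (fun K : Subgroup G => Nat.card K) (le_antisymm hP (subgroupOf_eq_top.mp h)))
      obtain ⟨g, hg1, hg2⟩ := SetLike.exists_of_lt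
        (Group.normalizerCondition_of_isNilpotent _ hlt')
      have hgl : IsPEl l (g : G) := isPEl_of_mem hl P.2 g.2
      have haS : ∃ a' ∈ S', a' ∉ center G := by
        by_contra h
        push Not at h
        obtain ⟨T, hT⟩ := (FGS76.isPGroup_zpowers (p := l) (g := (⟨a, haE⟩ : E))
          (by obtain ⟨k, hk⟩ := hal; exact ⟨k, by rw [orderOf_mk, hk]⟩)).exists_le_sylow
        obtain ⟨c, hc⟩ := MulAction.exists_smul_eq E S T
        have ha' : (⟨a, haE⟩ : E) ∈ (T : Subgroup E) := hT (mem_zpowers _)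
        rw [← hc, Sylow.coe_subgroup_smul] at ha'
        obtain ⟨s, hs, hs'⟩ := ha'
        refine haZ ?_
        have := (inferInstance : (center G).Normal).conj_mem (s : G) (h _ ⟨s, hs, rfl⟩) (c : G)
        have he : (c : G) * s * (c : G)⁻¹ = a := congrArg Subtype.val hs'
        rwa [he] at this
      obtain ⟨a', ha'S, ha'Z⟩ := haS
      have hga' : (g : G) * a' * (g : G)⁻¹ ∈ S' :=
        mem_subgroupOf.mp ((mem_normalizer_iff.mp hg1 ⟨a', hP ha'S⟩).mp (mem_subgroupOf.mpr ha'S))
      have hgN : (g : G) ∈ N := by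
        haveI : Finite (E : Set G) := Set.toFinite _
        refine Subgroup.mem_normalizer_fintype fun z hz => ?_
        have hne : (g : G) * a' * (g : G)⁻¹ ∉ center G := fun h => ha'Z (by
          simpa [mul_assoc] using (inferInstance : (center G).Normal).conj_mem _ h (g : G)⁻¹)
        rw [SetLike.mem_coe, hE, ← hEeq hp hpq (hpm.mul_right n) hy₀p hy₀Z hl hlq hld
          (isPEl_of_mem hl (S.2.map _) hga') hne (map_subtype_le _ hga'), mem_centralizer_singleton_iff]
        exact ((Commute.conj_iff (g : G)).mpr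
          (hEab z hz a' (map_subtype_le _ ha'S))).eq
      have hgE : (g : G) ∉ E := by
        intro hgE
        have hsup : IsPGroup l ↥(zpowers (g : G) ⊔ S') :=
          IsPGroup.to_sup_of_normal_right' (FGS76.isPGroup_zpowers hgl) (S.2.map _)
            ((zpowers_le.mpr (mem_centralizer_iff.mpr fun z hz =>
              (hEab z (map_subtype_le _ hz) g hgE).eq)).trans (centralizer_le_normalizer _))
        have hle : zpowers (g : G) ⊔ S' ≤ E := sup_le (zpowers_le.mpr hgE) (map_subtype_le _)
        have h3 := S.3 (hsup.of_equiv (subgroupOfEquivOfLe hle).symm) fun z hz =>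
          mem_subgroupOf.mpr (mem_sup_right ⟨z, hz, rfl⟩)
        refine hg2 (mem_subgroupOf.mpr ⟨⟨g, hgE⟩, ?_, rfl⟩)
        exact h3 ▸ mem_subgroupOf.mpr (mem_sup_left (mem_zpowers (g : G)))
      obtain ⟨k, hk⟩ := hgl
      set g' : N := ⟨g, hgN⟩
      have hdvd : orderOf (g' : N ⧸ E') ∣ l ^ k := by
        rw [← hk, ← orderOf_mk (g : G) hgN]
        exact orderOf_map_dvd (QuotientGroup.mk' E') g'
      obtain ⟨j, -, hj⟩ := (Nat.dvd_prime_pow hl).mp hdvd
      rcases j with - | j
      · exact absurd (mem_subgroupOf.mp ((QuotientGroup.eq_one_iff g').mp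
          (orderOf_eq_one_iff.mp (hj.trans (pow_zero l))))) hgE
      · exact (dvd_pow_self l (Nat.succ_ne_zero j)).trans (hj ▸ _root_.orderOf_dvd_natCard _)
    obtain ⟨h1, h2, h3⟩ := key hp hpq (hpm.mul_right n)
    obtain ⟨h4, h5, h6⟩ := key hr hrq hrd
    exact false_of_two_primes ρ M₀ hfix hp hr (Ne.symm hrp) h1 h2 h4 h5 h3 h6
  -- `G` is a `{p, q}`-group
  have hGprime : ∀ {r : ℕ}, r.Prime → r ∣ Nat.card G → r = p ∨ r = q := fun hr hd =>
    hprime hr (H.dvd_of_dvd_card hdf hr hd)
  haveI hsolv : Group.IsSolvable G := by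
    refine S0144.result p q ((Nat.card G).factorization p) ((Nat.card G).factorization q) hp hq ?_
    refine Nat.eq_of_factorization_eq Nat.card_pos.ne'
      (Nat.mul_ne_zero (pow_ne_zero _ hp.ne_zero) (pow_ne_zero _ hq.ne_zero)) fun t => ?_
    rw [Nat.factorization_mul (pow_ne_zero _ hp.ne_zero) (pow_ne_zero _ hq.ne_zero),
      hp.factorization_pow, hq.factorization_pow, Finsupp.add_apply]
    by_cases htp : t = p
    · subst htp; simp [hpq]
    by_cases htq : t = q
    · subst htq; simp [hpq]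
    simp only [Finsupp.single_apply, Ne.symm htp, Ne.symm htq, if_false, add_zero]
    by_cases ht : t.Prime
    · exact Nat.factorization_eq_zero_of_not_dvd fun h => (hGprime ht h).elim htp htq
    · exact Nat.factorization_eq_zero_of_not_prime _ ht
  set f := (Nat.card G).factorization p with hf
  set fm := m.factorization p with hfm
  have hcardC : ∀ {w : G}, IsPEl p w → w ∉ center G →
      (Nat.card (centralizer ({w} : Set G))).factorization p + fm = f := fun {w} hw hwZ => by
    have := factorization_card (centralizer ({w} : Set G)) p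
    rw [H.factorization_index_of_dvd_m hp hpm hwZ] at this
    exact this
  -- `p`-part of `m` is `p`
  obtain ⟨P⟩ : Nonempty (Sylow p G) := inferInstance
  obtain ⟨y, hyP, hyZ, hy⟩ : ∃ y ∈ (P : Subgroup G), y ∉ center G ∧
      ∀ g ∈ (P : Subgroup G), g * y * g⁻¹ * y⁻¹ ∈ center G := by
    set K := (center G).subgroupOf (P : Subgroup G) with hK
    haveI : Nontrivial ((P : Subgroup G) ⧸ K) := by
      rw [← not_subsingleton_iff_nontrivial]
      intro hss
      obtain ⟨g, hg⟩ := H.exists_mn
      exact (ClassPrimes.isVertex_iff P).mp ⟨hp, g, hg ▸ hpm.mul_right n⟩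
        (subgroupOf_eq_top.mp (QuotientGroup.subsingleton_iff.mp hss))
    have := (P.2.to_quotient K).center_nontrivial
    obtain ⟨⟨c, hc⟩, hc1⟩ := exists_ne (1 : center ((P : Subgroup G) ⧸ K))
    obtain ⟨y, rfl⟩ := QuotientGroup.mk'_surjective K c
    refine ⟨y, y.2, fun h => hc1 (Subtype.ext ((QuotientGroup.eq_one_iff y).mpr h)), fun g hg => ?_⟩
    have h1 : QuotientGroup.mk' K (⟨g, hg⟩ * y * ⟨g, hg⟩⁻¹ * y⁻¹) = 1 := by
      rw [map_mul, map_mul, map_mul, mem_center_iff.mp hc (QuotientGroup.mk' K ⟨g, hg⟩), map_inv,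
        map_inv, mul_inv_cancel_right, mul_inv_cancel]
    exact mem_subgroupOf.mp ((QuotientGroup.eq_one_iff _).mp h1)
  have hyp : IsPEl p y := isPEl_of_mem hp P.2 hyP
  obtain ⟨hymn, hEab⟩ := hgood hp hpq (hpm.mul_right n) hyp hyZ
  set E := centralizer ({y} : Set G) with hE
  have hPN : (P : Subgroup G) ≤ normalizer (E : Set G) := by
    intro g hg
    haveI : Finite (E : Set G) := Set.toFinite _
    refine Subgroup.mem_normalizer_fintype fun z hz => ?_
    rw [SetLike.mem_coe, hE, mem_centralizer_singleton_iff]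
    obtain ⟨c, hc⟩ : ∃ c, g⁻¹ * y * g⁻¹⁻¹ * y⁻¹ = c := ⟨_, rfl⟩
    have hcZ : c ∈ center G := hc ▸ hy g⁻¹ (inv_mem hg)
    have he : g⁻¹ * y * g = c * y := by rw [← hc]; group
    have hzy : z * (g⁻¹ * y * g) = g⁻¹ * y * g * z := by
      rw [he, ← mul_assoc, mem_center_iff.mp hcZ z, mul_assoc,
        mem_centralizer_singleton_iff.mp hz, ← mul_assoc]
    calc g * z * g⁻¹ * y = g * (z * (g⁻¹ * y * g)) * g⁻¹ := by group
      _ = y * (g * z * g⁻¹) := by rw [hzy]; group
  -- `E.relIndex P ≤ p`
  have hrelP : E.relIndex (P : Subgroup G) ≤ p := by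
    set N := normalizer (E : Set G) with hN
    set E' := E.subgroupOf N
    haveI : E'.Normal := inferInstance
    letI : CommGroup E' := { (inferInstance : Group E') with
      mul_comm := fun a b => Subtype.ext (Subtype.ext (hEab _ a.2 _ b.2).eq) }
    let ρ : (N ⧸ E') →* MulAut E' := QuotientGroup.lift E' (MulAut.conjNormal (H := E'))
      (fun x hx => MonoidHom.mem_ker.mpr (MulEquiv.ext fun y => Subtype.ext (Subtype.ext (by
        simp only [MulAut.conjNormal_apply, MulAut.one_apply, Subgroup.coe_mul, InvMemClass.coe_inv]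
        rw [(hEab (x : G) hx ((y : N) : G) y.2).eq, mul_inv_cancel_right]))))
    let M₀ : Subgroup E' := (center G).comap (N.subtype.comp E'.subtype)
    set L := (((P : Subgroup G).subgroupOf N).map (QuotientGroup.mk' E')) with hL
    have hLp : IsPGroup p L := (P.2.of_equiv (subgroupOfEquivOfLe hPN).symm).map _
    have hρ : ∀ (g : N) (v : E'), (((ρ (g : N ⧸ E') v : E') : N) : G) =
        (g : G) * ((v : N) : G) * (g : G)⁻¹ := fun g v => by simp [ρ, MulAut.conjNormal_apply]
    have hfix : ∀ f : L, ∀ v ∈ M₀, (ρ.comp L.subtype) f v = v := by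
      rintro ⟨_, g, hg, rfl⟩ v hv
      refine Subtype.ext (Subtype.ext ?_)
      show (((ρ (g : N ⧸ E') v : E') : N) : G) = _
      rw [hρ]
      have hv' : ((v : N) : G) ∈ center G := hv
      rw [mem_center_iff.mp hv' g, mul_inv_cancel_right]
    have hfree : ∀ l, l.Prime → l = p ∨ l = q → FreeAction.FreeOn (ρ.comp L.subtype) M₀ l := by
      rintro l hl hlpq ⟨_, g, hg, rfl⟩ hf v hvl hv
      by_contra hvZ
      refine hf (Subtype.ext ((QuotientGroup.eq_one_iff g).mpr ?_))
      show (g : G) ∈ E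
      have h1 : (g : G) * ((v : N) : G) * (g : G)⁻¹ = ((v : N) : G) := by
        rw [← hρ]; exact congrArg (fun z : E' => ((z : N) : G)) hv
      have hgv : Commute (g : G) ((v : N) : G) := mul_inv_eq_iff_eq_mul.mp h1
      have hvl' : IsPEl l ((v : N) : G) := by
        obtain ⟨k, hk⟩ := hvl; exact ⟨k, by rw [orderOf_coe, orderOf_coe, hk]⟩
      rcases hlpq with rfl | rfl
      · rw [hE, ← hEeq hp hpq (hpm.mul_right n) hyp hyZ hp hpq (hpm.mul_right n) hvl' hvZ v.2]
        exact mem_centralizer_singleton_iff.mpr hgv.eq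
      · have hle : E ≤ centralizer ({((v : N) : G)} : Set G) := fun z hz =>
          mem_centralizer_singleton_iff.mpr (hEab z hz _ v.2).eq
        rcases H.cases2 (fun h => hvZ h) with hvm | hvmn
        · -- the Sylow `p`-subgroups of `C(v)` are those of `E`
          by_contra hgE
          obtain ⟨S⟩ : Nonempty (Sylow p E) := inferInstance
          set S' := (S : Subgroup E).map E.subtype
          have hgS : (g : G) ∈ normalizer (S' : Set G) := by
            haveI : Finite (S' : Set G) := Set.toFinite _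
            refine Subgroup.mem_normalizer_fintype fun z hz => ?_
            have hzE : (g : G) * z * (g : G)⁻¹ ∈ E :=
              (mem_normalizer_iff.mp g.2 z).mp (map_subtype_le _ hz)
            have hzl := isPEl_conj (g : G) (isPEl_of_mem hp (S.2.map _) hz)
            have hsup : IsPGroup p ↥(zpowers ((g : G) * z * (g : G)⁻¹) ⊔ S') :=
              IsPGroup.to_sup_of_normal_right' (FGS76.isPGroup_zpowers hzl) (S.2.map _)
                ((zpowers_le.mpr (mem_centralizer_iff.mpr fun z' hz' =>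
                  (hEab z' (map_subtype_le _ hz') _ hzE).eq)).trans (centralizer_le_normalizer _))
            have hle' : zpowers ((g : G) * z * (g : G)⁻¹) ⊔ S' ≤ E :=
              sup_le (zpowers_le.mpr hzE) (map_subtype_le _)
            have h3 := S.3 (hsup.of_equiv (subgroupOfEquivOfLe hle').symm) fun z' hz' =>
              mem_subgroupOf.mpr (mem_sup_right ⟨z', hz', rfl⟩)
            exact ⟨⟨_, hzE⟩, h3 ▸ mem_subgroupOf.mpr (mem_sup_left (mem_zpowers _)), rfl⟩
          have hgl : IsPEl p (g : G) := isPEl_of_mem hp P.2 hg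
          have hsup : IsPGroup p ↥(zpowers (g : G) ⊔ S') :=
            IsPGroup.to_sup_of_normal_right' (FGS76.isPGroup_zpowers hgl) (S.2.map _)
              (zpowers_le.mpr hgS)
          obtain ⟨e, he⟩ := hsup.exists_card_eq
          have h2 : zpowers (g : G) ⊔ S' ≤ centralizer ({((v : N) : G)} : Set G) :=
            sup_le (zpowers_le.mpr (mem_centralizer_singleton_iff.mpr hgv.eq))
              ((map_subtype_le _).trans hle)
          have h3 := card_dvd_of_le h2
          rw [he, hp.pow_dvd_iff_le_factorization Nat.card_pos.ne'] at h3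
          have h4 := factorization_card (centralizer ({((v : N) : G)} : Set G)) p
          have hvZ' : ((v : N) : G) ∉ center G := hvZ
          rw [H.factorization_index_of_dvd_m hp hpm hvZ'] at h4
          have h5 : (Nat.card E).factorization p + fm = f := hcardC hyp hyZ
          have hlt : Nat.card S' < p ^ e := by
            rw [← he]
            refine lt_of_le_of_ne (card_le_of_le le_sup_right) fun h => hgE ?_
            have hS : S' = zpowers (g : G) ⊔ S' :=
              Subgroup.eq_of_le_of_card_ge le_sup_right h.ge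
            exact map_subtype_le _ (hS.symm ▸ mem_sup_left (mem_zpowers (g : G)) : (g : G) ∈ S')
          rw [card_map_of_injective (subtype_injective E), S.card_eq_multiplicity] at hlt
          have h6 := (Nat.pow_lt_pow_iff_right hp.one_lt).mp hlt
          omega
        · rw [show E = centralizer ({((v : N) : G)} : Set G) from
            eq_of_le_of_index_eq hle (hymn.trans hvmn.symm)]
          exact mem_centralizer_singleton_iff.mpr hgv.eq
    have hmv : ∀ {l}, l.Prime → l = p ∨ l = q → FreeAction.Moves M₀ l := by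
      intro l hl hlpq
      have hex : ∃ a ∈ E, IsPEl l a ∧ a ∉ center G := by
        rcases hlpq with rfl | rfl
        · exact ⟨y, mem_centralizer_singleton_iff.mpr rfl, hyp, hyZ⟩
        · exact (habP hp hpm hyp hyZ).2
      obtain ⟨a, haE, hal, haZ⟩ := hex
      refine ⟨⟨⟨a, le_normalizer haE⟩, haE⟩, ?_, haZ⟩
      obtain ⟨k, hk⟩ := hal; exact ⟨k, by rw [← hk, ← orderOf_coe, ← orderOf_coe]⟩
    have h := FreeAction.card_le_of_isPGroup (ρ.comp L.subtype) M₀ hfix hp hq hpq
      (hfree p hp (Or.inl rfl)) (hmv hp (Or.inl rfl)) (hfree q hq (Or.inr rfl)) (hmv hq (Or.inr rfl))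
      ⊤ (hLp.to_subgroup ⊤)
    rw [card_top, hL, ← Thompson.relIndex_eq_card_map_mk',
      Subgroup.relIndex_subgroupOf hPN] at h
    exact h
  set S := E ⊓ (P : Subgroup G) with hS
  set β := (Nat.card (center G)).factorization p with hβ
  have hfm1 : fm = 1 ∧ Nat.card S = p ^ (f - 1) := by
    obtain ⟨e, he⟩ := (P.2.to_le (inf_le_right : S ≤ _)).exists_card_eq
    have h1 := card_dvd_of_le (inf_le_left : S ≤ E)
    rw [he, hp.pow_dvd_iff_le_factorization Nat.card_pos.ne'] at h1
    have h2 := card_inf_mul_relIndex E (P : Subgroup G)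
    rw [← hS, he, P.card_eq_multiplicity] at h2
    have h3 : p ^ f ≤ p ^ (e + 1) := by
      rw [pow_succ, ← h2]; exact Nat.mul_le_mul_left _ hrelP
    have h4 := (Nat.pow_le_pow_iff_right hp.one_lt).mp h3
    have h5 : (Nat.card E).factorization p + fm = f := hcardC hyp hyZ
    have h6 : 0 < fm := hp.factorization_pos_of_dvd H.m_ne_zero hpm
    constructor
    · omega
    · rw [he]; congr 1; omega
  obtain ⟨hfm1, hScard⟩ := hfm1
  -- the Sylow `q`-subgroup `W` is normal
  set W := pCore q G with hW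
  have hWq : IsPGroup q W := Thompson.isPGroup_pCore
  have hWall : ∀ e : G, IsPEl q e → e ∈ W := by
    intro e he
    set π := QuotientGroup.mk' W with hπ
    by_cases heZ : e ∈ center G
    · haveI : (zpowers e).Normal := ⟨fun x hx c => by
        obtain ⟨i, rfl⟩ := hx
        rw [mem_center_iff.mp ((center G).zpow_mem heZ i) c, mul_inv_cancel_right]
        exact ⟨i, rfl⟩⟩
      exact Thompson.le_pCore inferInstance (FGS76.isPGroup_zpowers he) (mem_zpowers e)
    have hps : IsPSolvable p (G ⧸ W) := OddLocal44.isPSolvable_of_isSolvable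
    have hO : pPrimeCore p (G ⧸ W) = ⊥ := by
      refine le_bot_iff.mp ((?_ : pPrimeCore p (G ⧸ W) ≤ pCore q (G ⧸ W)).trans
        (le_of_eq Thompson.pCore_quotient_pCore))
      refine Thompson.le_pCore inferInstance (IsPGroup.of_card
        (Nat.eq_prime_pow_of_unique_prime_dvd Nat.card_pos.ne' fun {r} hr hrd => ?_))
      refine (hGprime hr (hrd.trans ((card_subgroup_dvd_card _).trans
        (W.card_quotient_dvd_card)))).resolve_left fun h => ?_
      exact Thompson.not_dvd_card_pPrimeCore (h ▸ hrd)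
    set L := pCore p (G ⧸ W) with hL
    obtain ⟨w, hwC, hwp, hwZ⟩ := H.exists_noncentral_pEl_centralizing hp hpm e
    have hwab := (habP hp hpm hwp hwZ).1
    have heC : e ∈ centralizer ({w} : Set G) := mem_centralizer_comm hwC
    obtain ⟨S₁, hwS₁⟩ := (FGS76.isPGroup_zpowers (p := p) (g := (⟨w, mem_centralizer_singleton_iff.mpr rfl⟩ :
      centralizer ({w} : Set G))) (by obtain ⟨k, hk⟩ := hwp; exact ⟨k, by rw [orderOf_mk, hk]⟩)
      ).exists_le_sylow
    set S' := (S₁ : Subgroup _).map (centralizer ({w} : Set G)).subtype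
    have hwS' : w ∈ S' := ⟨_, hwS₁ (mem_zpowers _), rfl⟩
    obtain ⟨P', hP'⟩ := (S₁.2.map _ : IsPGroup p S').exists_le_sylow
    have hLP' : L ≤ (P' : Subgroup G).map π := by
      have := Thompson.pCore_le_sylow (G := G ⧸ W) (p := p) (P'.mapSurjective (QuotientGroup.mk'_surjective W))
      simpa using this
    have hQ : zpowers (π e) ≤ centralizer (L : Set (G ⧸ W)) := by
      refine Coprime.thompson_pxq p (S'.map π) (zpowers (π e)) L ((S₁.2.map _).map π) ?_
        Thompson.isPGroup_pCore ?_ ?_ ?_ ?_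
      · rw [Nat.card_zpowers]
        obtain ⟨k, hk⟩ := he
        refine Nat.Coprime.coprime_dvd_left (hk ▸ orderOf_map_dvd π e) ?_
        exact ((Nat.coprime_primes hq hp).mpr hpq.symm).pow_left k
      · rintro _ ⟨s, hs, rfl⟩
        refine mem_centralizer_iff.mpr ?_
        rintro _ ⟨i, rfl⟩
        have hc : Commute s e := hwab s (map_subtype_le _ hs) e heC
        exact ((hc.map π).zpow_right i).symm.eq
      · exact le_top.trans (le_of_eq (normalizer_eq_top (H := L)).symm)
      · exact le_top.trans (le_of_eq (normalizer_eq_top (H := L)).symm)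
      · rintro l ⟨hlL, hlC⟩
        obtain ⟨x, hx, rfl⟩ := hLP' hlL
        refine mem_centralizer_iff.mpr ?_
        rintro _ ⟨i, rfl⟩
        have hxw : Commute x w := by
          have h1 : π (x * w * x⁻¹ * w⁻¹) = 1 := by
            rw [map_mul, map_mul, map_mul,
              ← mem_centralizer_iff.mp hlC (π w) ⟨w, hwS', rfl⟩, map_inv, map_inv,
              mul_inv_cancel_right, mul_inv_cancel]
          have h2 : x * w * x⁻¹ * w⁻¹ ∈ (P' : Subgroup G) := by
            exact (P' : Subgroup G).mul_mem ((P' : Subgroup G).mul_mem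
              ((P' : Subgroup G).mul_mem hx (hP' hwS')) ((P' : Subgroup G).inv_mem hx))
              ((P' : Subgroup G).inv_mem (hP' hwS'))
          have h3 : x * w * x⁻¹ * w⁻¹ = 1 := Subgroup.mem_bot.mp
            (disjoint_iff.mp (IsPGroup.disjoint_of_ne p q hpq _ _ P'.2 hWq) ▸
              ⟨h2, (QuotientGroup.eq_one_iff _).mp h1⟩)
          exact mul_inv_eq_iff_eq_mul.mp (mul_inv_eq_one.mp h3)
        have hxe : Commute x e := hwab x (mem_centralizer_singleton_iff.mpr hxw.eq) e heC
        exact ((hxe.map π).zpow_right i).symm.eq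
    have hmem := Thompson.centralizer_pCore_le hps hO (hQ (mem_zpowers _))
    rw [← QuotientGroup.eq_one_iff, ← orderOf_eq_one_iff]
    obtain ⟨k, hk⟩ := (Thompson.isPGroup_pCore : IsPGroup p L).exists_card_eq
    obtain ⟨j, hj⟩ := he
    exact Nat.eq_one_of_dvd_coprimes
      (Nat.Coprime.pow j k ((Nat.coprime_primes hq hp).mpr hpq.symm))
      (hj ▸ orderOf_map_dvd π e) (hk ▸ L.orderOf_dvd_natCard hmem)
  have hPW : ∀ g : G, ∃ π₀ ∈ (P : Subgroup G), ∃ w₀ ∈ W, π₀ * w₀ = g := by
    have htop : (P : Subgroup G) ⊔ W = ⊤ := by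
      rw [← index_eq_one]
      by_contra hne
      obtain ⟨r, hr, hrd⟩ := Nat.exists_prime_and_dvd hne
      rcases hGprime hr (hrd.trans (index_dvd_card _)) with rfl | rfl
      · exact P.not_dvd_index (hrd.trans (index_dvd_of_le le_sup_left))
      · obtain ⟨Q⟩ : Nonempty (Sylow r G) := inferInstance
        exact Q.not_dvd_index (hrd.trans (index_dvd_of_le fun x hx =>
          mem_sup_right (hWall x (isPEl_of_mem hq Q.2 hx))))
    exact fun g => Subgroup.mem_sup_of_normal_right.mp (htop ▸ mem_top g)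
  have hdisj : Disjoint (P : Subgroup G) W := IsPGroup.disjoint_of_ne p q hpq _ _ P.2 hWq
  -- centralizers in `P`
  have hY : ∀ g ∈ (P : Subgroup G), g ∉ center G →
      Nat.card ↥(centralizer ({g} : Set G) ⊓ (P : Subgroup G)) = p ^ (f - 1) := by
    intro g hgP hgZ
    have hgp := isPEl_of_mem hp P.2 hgP
    obtain ⟨R⟩ : Nonempty (Sylow p (centralizer ({g} : Set G))) := inferInstance
    set R' := (R : Subgroup _).map (centralizer ({g} : Set G)).subtype
    have hR' : Nat.card R' = p ^ (f - 1) := by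
      rw [card_map_of_injective (subtype_injective _), R.card_eq_multiplicity]
      congr 1
      have := hcardC hgp hgZ
      omega
    have h1 : Nat.card R' ≤ Nat.card ↥(centralizer ({g} : Set G) ⊓ (P : Subgroup G)) := by
      choose π₀ hπ₀ w₀ hw₀ hπw using hPW
      have hmem : ∀ x ∈ R', π₀ x ∈ centralizer ({g} : Set G) ⊓ (P : Subgroup G) := by
        intro x hx
        refine ⟨?_, hπ₀ x⟩
        refine mem_centralizer_singleton_iff.mpr ?_
        have hxg : x * g = g * x := mem_centralizer_singleton_iff.mp (map_subtype_le _ hx)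
        have h1 : π₀ x * g * (π₀ x)⁻¹ * g⁻¹ ∈ (P : Subgroup G) :=
          (P : Subgroup G).mul_mem ((P : Subgroup G).mul_mem ((P : Subgroup G).mul_mem (hπ₀ x) hgP)
            ((P : Subgroup G).inv_mem (hπ₀ x))) ((P : Subgroup G).inv_mem hgP)
        have h2 : π₀ x * g * (π₀ x)⁻¹ * g⁻¹ ∈ W := by
          rw [← QuotientGroup.eq_one_iff]
          have hπx : (π₀ x : G ⧸ W) = x := QuotientGroup.eq.mpr (by
            rw [show (π₀ x)⁻¹ * x = w₀ x by rw [← eq_inv_mul_iff_mul_eq.mpr (hπw x)]]
            exact hw₀ x)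
          rw [QuotientGroup.mk_mul, QuotientGroup.mk_mul, QuotientGroup.mk_mul, QuotientGroup.mk_inv,
            hπx, ← QuotientGroup.mk_inv, ← QuotientGroup.mk_mul, ← QuotientGroup.mk_mul,
            ← QuotientGroup.mk_mul, hxg]
          simp
        exact mul_inv_eq_iff_eq_mul.mp (mul_inv_eq_one.mp
          (Subgroup.disjoint_def.mp hdisj h1 h2))
      refine Nat.card_le_card_of_injective (fun x : R' => (⟨π₀ x, hmem x x.2⟩ :
        ↥(centralizer ({g} : Set G) ⊓ (P : Subgroup G)))) fun a b hab => Subtype.ext ?_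
      have hab' : π₀ (a : G) = π₀ (b : G) := congrArg Subtype.val hab
      have h3 : (a : G)⁻¹ * b ∈ W := by
        rw [← hπw a, ← hπw b, hab']
        simp only [mul_inv_rev, mul_assoc, inv_mul_cancel_left]
        exact W.mul_mem (W.inv_mem (hw₀ a)) (hw₀ b)
      exact inv_mul_eq_one.mp (Subgroup.mem_bot.mp
        (disjoint_iff.mp (IsPGroup.disjoint_of_ne p q hpq _ _ (R.2.map _) hWq) ▸
          ⟨R'.mul_mem (R'.inv_mem a.2) b.2, h3⟩))
    obtain ⟨e, he⟩ := (P.2.to_le (inf_le_right :
      centralizer ({g} : Set G) ⊓ (P : Subgroup G) ≤ _)).exists_card_eq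
    have h2 := card_dvd_of_le (inf_le_left :
      centralizer ({g} : Set G) ⊓ (P : Subgroup G) ≤ centralizer ({g} : Set G))
    rw [he, hp.pow_dvd_iff_le_factorization Nat.card_pos.ne'] at h2
    rw [hR', he] at h1
    rw [he]
    have h3 := (Nat.pow_le_pow_iff_right hp.one_lt).mp h1
    have := hcardC hgp hgZ
    congr 1
    omega
  set Zp := center G ⊓ (P : Subgroup G) with hZp
  have hZpcard : Nat.card Zp = p ^ β := by
    refine card_eq_of_forall_mem (P.2.to_le inf_le_right) inf_le_left fun x hx hxp => ⟨hx, ?_⟩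
    have hle : zpowers x ≤ normalizer ((P : Subgroup G) : Set G) :=
      (zpowers_le.mpr (mem_centralizer_iff.mpr fun z _ => mem_center_iff.mp hx z)).trans
        (centralizer_le_normalizer _)
    have hsup := IsPGroup.to_sup_of_normal_right' (FGS76.isPGroup_zpowers hxp) P.2 hle
    exact (P.3 hsup le_sup_right) ▸ mem_sup_left (mem_zpowers _)
  have hSx : ∃ x ∈ (P : Subgroup G), x ∉ E := by
    by_contra h
    push Not at h
    have h1 := card_le_of_le (le_inf h le_rfl : (P : Subgroup G) ≤ S)
    rw [hScard, P.card_eq_multiplicity] at h1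
    have := (Nat.pow_le_pow_iff_right hp.one_lt).mp h1
    have : (Nat.card E).factorization p + fm = f := hcardC hyp hyZ
    omega
  obtain ⟨x, hxP, hxE⟩ := hSx
  have hf2 : f = β + 2 := by
    have hxZ : x ∉ center G := fun h => hxE (center_le_centralizer _ h)
    set Y := centralizer ({x} : Set G) ⊓ (P : Subgroup G)
    have hinf : S ⊓ Y ≤ Zp := by
      rintro a ⟨⟨haE, haP⟩, haY, -⟩
      refine ⟨?_, haP⟩
      by_contra haZ
      have hap := isPEl_of_mem hp P.2 haP
      refine hxE ?_
      rw [hE, ← hEeq hp hpq (hpm.mul_right n) hyp hyZ hp hpq (hpm.mul_right n) hap haZ haE]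
      exact mem_centralizer_comm haY
    have h1 := card_inf_mul_relIndex S Y
    rw [hY x hxP hxZ] at h1
    have h2 : S.relIndex Y ≤ p := by
      refine (Subgroup.relIndex_le_of_le_right (inf_le_right : Y ≤ _) index_ne_zero_of_finite).trans
        ?_
      rw [hS, inf_relIndex_right]
      exact hrelP
    have h3 : p ^ (f - 1) ≤ p ^ (β + 1) := by
      rw [← h1, pow_succ, ← hZpcard]
      exact Nat.mul_le_mul (card_le_of_le hinf) h2
    have h4 := (Nat.pow_le_pow_iff_right hp.one_lt).mp h3
    have h5 : p ^ β < p ^ (f - 1) := by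
      rw [← hZpcard, ← hScard]
      have hle : Zp ≤ S := le_inf (inf_le_left.trans (center_le_centralizer _)) inf_le_right
      refine lt_of_le_of_ne (card_le_of_le hle) fun h => hyZ ?_
      have hyS : y ∈ S := ⟨mem_centralizer_singleton_iff.mpr rfl, hyP⟩
      rw [← Subgroup.eq_of_le_of_card_ge hle h.ge] at hyS
      exact hyS.1
    have h6 := (Nat.pow_lt_pow_iff_right hp.one_lt).mp h5
    omega
  -- the endgame on the Frattini quotient of `W`
  set Z := (center G).subgroupOf (P : Subgroup G) with hZdef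
  have hZidx : Z.index = p ^ 2 := by
    have h := card_inf_mul_relIndex (center G) (P : Subgroup G)
    rw [← hZp, hZpcard, P.card_eq_multiplicity, ← hf, hf2, pow_add] at h
    exact Nat.eq_of_mul_eq_mul_left (pow_pos hp.pos β) h
  haveI : Z.Normal := inferInstance
  have hcommZ : ∀ a b : (P : Subgroup G), a * b * a⁻¹ * b⁻¹ ∈ Z := by
    intro a b
    rw [← QuotientGroup.eq_one_iff]
    have := IsPGroup.isMulCommutative_of_card_eq_prime_sq
      (show Nat.card ((P : Subgroup G) ⧸ Z) = p ^ 2 from hZidx)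
    rw [QuotientGroup.mk_mul, QuotientGroup.mk_mul, QuotientGroup.mk_mul, QuotientGroup.mk_inv,
      QuotientGroup.mk_inv, mul_comm' (a : (P : Subgroup G) ⧸ Z) (b : (P : Subgroup G) ⧸ Z),
      mul_inv_cancel_right, mul_inv_cancel]
  have hpowZ : ∀ a : (P : Subgroup G), a ^ p ∈ Z := by
    intro a
    by_cases haZ : (a : G) ∈ center G
    · exact mem_subgroupOf.mpr (by simpa using pow_mem haZ p)
    set Y := centralizer ({(a : G)} : Set G) ⊓ (P : Subgroup G)
    have hidx : ((center G).subgroupOf Y).index = p := by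
      have h := card_inf_mul_relIndex (center G) Y
      have he : center G ⊓ Y = Zp := le_antisymm (fun z hz => ⟨hz.1, hz.2.2⟩)
        fun z hz => ⟨hz.1, center_le_centralizer _ hz.1, hz.2⟩
      rw [he, hZpcard, hY a a.2 haZ, hf2, show β + 2 - 1 = β + 1 by omega, pow_succ] at h
      exact Nat.eq_of_mul_eq_mul_left (pow_pos hp.pos β) h
    have := Subgroup.pow_index_mem ((center G).subgroupOf Y)
      ⟨(a : G), mem_centralizer_singleton_iff.mpr rfl, a.2⟩
    rw [hidx] at this
    exact mem_subgroupOf.mpr (by simpa using mem_subgroupOf.mp this)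
  haveI := hWq.isNilpotent
  set Φ := frattini W with hΦ
  letI : CommGroup (W ⧸ Φ) := { (inferInstance : Group (W ⧸ Φ)) with
    mul_comm := fun a b => by
      induction a using QuotientGroup.induction_on with
      | H a =>
        induction b using QuotientGroup.induction_on with
        | H b =>
          rw [← QuotientGroup.mk_mul, ← QuotientGroup.mk_mul, QuotientGroup.eq]
          exact PGroup.commutator_le_frattini hWq (by
            rw [commutator_def, show (a * b)⁻¹ * (b * a) = ⁅b⁻¹, a⁻¹⁆ by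
              rw [commutatorElement_def]; group]
            exact commutator_mem_commutator (mem_top _) (mem_top _)) }
  let ψ₀ : (P : Subgroup G) →* MulAut W := (MulAut.conjNormal (H := W)).comp (P : Subgroup G).subtype
  have hmapΦ : ∀ g, Φ.map (ψ₀ g).toMonoidHom = Φ := fun g =>
    (Subgroup.characteristic_iff_map_eq.mp (frattini_characteristic (G := W))) (ψ₀ g)
  let ψ : (P : Subgroup G) →* MulAut (W ⧸ Φ) := MonoidHom.mk'
    (fun g => QuotientGroup.congr Φ Φ (ψ₀ g) (hmapΦ g))
    (fun a b => MulEquiv.ext fun v => by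
      induction v using QuotientGroup.induction_on with
      | H v =>
        show ((ψ₀ (a * b) v : W) : W ⧸ Φ) = ((ψ₀ a (ψ₀ b v) : W) : W ⧸ Φ)
        rw [map_mul]
        rfl)
  have hψ : ∀ (g : (P : Subgroup G)) (v : W), ψ g (v : W ⧸ Φ) = ((ψ₀ g v : W) : W ⧸ Φ) := fun _ _ => rfl
  have hψZ : ∀ z ∈ Z, ∀ v : W ⧸ Φ, ψ z v = v := by
    intro z hz v
    induction v using QuotientGroup.induction_on with
    | H v =>
      rw [hψ]
      congr 1
      refine Subtype.ext ?_
      show ((z : G)) * (v : G) * (z : G)⁻¹ = v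
      rw [← mem_center_iff.mp (mem_subgroupOf.mp hz) (v : G), mul_inv_cancel_right]
  have hΦexp : ∀ v : W ⧸ Φ, v ^ q = 1 := by
    intro v
    induction v using QuotientGroup.induction_on with
    | H v =>
      rw [← QuotientGroup.mk_pow, QuotientGroup.eq_one_iff]
      exact PGroup.pow_mem_frattini hWq v
  have hcover : ∀ v : W ⧸ Φ, ∃ g : (P : Subgroup G), g ∉ Z ∧ ψ g v = v := by
    intro v
    induction v using QuotientGroup.induction_on with
    | H v =>
      obtain ⟨g', hg'C, hg'p, hg'Z⟩ := H.exists_noncentral_pEl_centralizing hp hpm (v : G)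
      obtain ⟨d, -, hd⟩ := exists_conj_le (D := ⊤) (E := (P : Subgroup G)) le_top
        (by rw [relIndex_top_right]; exact P.not_dvd_index) (FGS76.isPGroup_zpowers hg'p) le_top
      obtain ⟨π₀, hπ₀, w₀, hw₀, hdw⟩ := hPW d
      have hg : w₀ * g' * w₀⁻¹ ∈ (P : Subgroup G) := by
        have h := hd g' (mem_zpowers g')
        have := (P : Subgroup G).mul_mem ((P : Subgroup G).mul_mem ((P : Subgroup G).inv_mem hπ₀) h) hπ₀
        rw [← hdw] at this
        simpa [mul_assoc] using this
      refine ⟨⟨_, hg⟩, fun h => hg'Z ?_, ?_⟩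
      · simpa [mul_assoc] using (inferInstance : (center G).Normal).conj_mem _
          (mem_subgroupOf.mp h) w₀⁻¹
      have hgv : ψ₀ ⟨_, hg⟩ (⟨w₀, hw₀⟩ * v * ⟨w₀, hw₀⟩⁻¹) = ⟨w₀, hw₀⟩ * v * ⟨w₀, hw₀⟩⁻¹ := by
        refine Subtype.ext ?_
        show w₀ * g' * w₀⁻¹ * (w₀ * (v : G) * w₀⁻¹) * (w₀ * g' * w₀⁻¹)⁻¹ = w₀ * (v : G) * w₀⁻¹
        have hc : g' * (v : G) = v * g' := mem_centralizer_singleton_iff.mp hg'C
        calc w₀ * g' * w₀⁻¹ * (w₀ * (v : G) * w₀⁻¹) * (w₀ * g' * w₀⁻¹)⁻¹
            = w₀ * (g' * (v : G)) * g'⁻¹ * w₀⁻¹ := by group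
          _ = w₀ * (v : G) * w₀⁻¹ := by rw [hc]; group
      have hcv : ((⟨w₀, hw₀⟩ * v * ⟨w₀, hw₀⟩⁻¹ : W) : W ⧸ Φ) = (v : W ⧸ Φ) := by
        rw [QuotientGroup.mk_mul, QuotientGroup.mk_mul, QuotientGroup.mk_inv,
          mul_comm ((⟨w₀, hw₀⟩ : W) : W ⧸ Φ), mul_inv_cancel_right]
      rw [← hcv, hψ, hgv]
  obtain ⟨g, hgZ, hgall⟩ := eq_of_fixed_union ψ Z hq hpq hcommZ hZidx hpowZ hψZ hΦexp hcover
  have hgZ' : (g : G) ∉ center G := fun h => hgZ (mem_subgroupOf.mpr h)
  have hgp : IsPEl p (g : G) := isPEl_of_mem hp P.2 g.2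
  have hWC : zpowers (g : G) ≤ centralizer (W : Set G) := by
    refine Coprime.le_centralizer_of_frattini _ _ (le_top.trans (le_of_eq (normalizer_eq_top (H := W)).symm))
      ?_ fun a ha k hk => ?_
    · obtain ⟨i, hi⟩ := hgp
      obtain ⟨j, hj⟩ := (hWq.to_subgroup Φ).exists_card_eq
      rw [Nat.card_zpowers, hi, hj]
      exact Nat.Coprime.pow i j ((Nat.coprime_primes hp hq).mpr hpq)
    · obtain ⟨i, rfl⟩ := ha
      have hfix : ψ (g ^ i) ((⟨k, hk⟩ : W) : W ⧸ Φ) = ((⟨k, hk⟩ : W) : W ⧸ Φ) := by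
        have : g ∈ (MulAction.stabilizer (MulAut (W ⧸ Φ)) ((⟨k, hk⟩ : W) : W ⧸ Φ)).comap ψ :=
          hgall _
        exact Subgroup.zpow_mem _ this i
      rw [hψ, QuotientGroup.eq] at hfix
      refine ⟨ψ₀ (g ^ i) ⟨k, hk⟩ * (⟨k, hk⟩ : W)⁻¹, ?_, ?_⟩
      · have h1 := Φ.inv_mem hfix
        rw [mul_inv_rev, inv_inv] at h1
        have h2 := (inferInstance : Φ.Normal).conj_mem _ h1 (⟨k, hk⟩ : W)
        simpa [mul_assoc] using h2
      · simp only [Subgroup.coe_subtype, Subgroup.coe_mul, ψ₀, MonoidHom.comp_apply,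
          SubgroupClass.coe_zpow, MulAut.conjNormal_apply, InvMemClass.coe_inv]
  have hidx := hII hp hpm hgp hgZ'
  obtain ⟨Q⟩ : Nonempty (Sylow q G) := inferInstance
  have hQC : (Q : Subgroup G) ≤ centralizer ({(g : G)} : Set G) := fun z hz =>
    mem_centralizer_singleton_iff.mpr
      (mem_centralizer_iff.mp (hWC (mem_zpowers _)) z (hWall z (isPEl_of_mem hq Q.2 hz)))
  exact Q.not_dvd_index ((hqn.mul_left m).trans ((dvd_of_eq hidx.symm).trans (index_dvd_of_le hQC)))

end Hyp

end Cfsg.Agent.FGS80.ThreeSizes
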