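import Cfsg.Agent.FGS80.ThreeSizes.Base

/-!
# Class sizes `{1, m, m * n}`: the abelian centralizer `D` of index `m` is normal, `m` is prime
-/

namespace Cfsg.Agent.FGS80.ThreeSizes

open Subgroup
open scoped commutatorElement

variable {G : Type*} [Group G] [Finite G] {m n : ℕ}

/-- A `p`-subgroup of `L` containing all `p`-elements of `L` is a Sylow subgroup of `L`. -/
lemma card_eq_of_forall_mem {p : ℕ} [hp : Fact p.Prime] {K L : Subgroup G} (hK : IsPGroup p K)
    (hKL : K ≤ L) (h : ∀ x ∈ L, IsPEl p x → x ∈ K) :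
    Nat.card K = p ^ (Nat.card L).factorization p := by
  obtain ⟨S⟩ : Nonempty (Sylow p L) := inferInstance
  have hS : (S : Subgroup L).map L.subtype ≤ K := fun x hx =>
    h x (map_subtype_le _ hx) (isPEl_of_mem hp.out (S.2.map _) hx)
  obtain ⟨e, he⟩ := hK.exists_card_eq
  have h1 := card_dvd_of_le hS
  rw [card_map_of_injective (subtype_injective L), S.card_eq_multiplicity, he] at h1
  have h2 := card_dvd_of_le hKL
  rw [he, hp.out.pow_dvd_iff_le_factorization Nat.card_pos.ne'] at h2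
  rw [he, le_antisymm h2 ((Nat.pow_dvd_pow_iff_le_right hp.out.one_lt).mp h1)]

lemma card_inf_mul_relIndex (H K : Subgroup G) :
    Nat.card ↥(H ⊓ K) * H.relIndex K = Nat.card K := by
  have h := (H.subgroupOf K).card_mul_index
  rw [← Subgroup.inf_subgroupOf_right, Nat.card_congr (subgroupOfEquivOfLe inf_le_right).toEquiv,
    Subgroup.inf_subgroupOf_right] at h
  exact h

lemma IsPEl.mul {p : ℕ} (hp : p.Prime) {a b : G} (hc : Commute a b) (ha : IsPEl p a)
    (hb : IsPEl p b) : IsPEl p (a * b) := by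
  obtain ⟨i, hi⟩ := ha
  obtain ⟨j, hj⟩ := hb
  have h : orderOf (a * b) ∣ p ^ (i + j) :=
    (hc.orderOf_mul_dvd_lcm.trans (Nat.lcm_dvd_mul _ _)).trans (by rw [hi, hj, pow_add])
  obtain ⟨k, -, hk⟩ := (Nat.dvd_prime_pow hp).mp h
  exact ⟨k, hk⟩

namespace IsBase

variable {D : Subgroup G} (B : IsBase D m)
include B

/-- The `p`-part of `D`. -/
lemma exists_pPart (p : ℕ) [hp : Fact p.Prime] : ∃ A : Subgroup G, A ≤ D ∧ IsPGroup p A ∧
    (∀ x, x ∈ A ↔ x ∈ D ∧ IsPEl p x) ∧
    Nat.card A = p ^ (Nat.card D).factorization p ∧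
    Nat.card ↥(A ⊓ center G) = p ^ (Nat.card (center G)).factorization p ∧
    normalizer (D : Set G) ≤ normalizer (A : Set G) := by
  let A : Subgroup G :=
    { carrier := {x | x ∈ D ∧ IsPEl p x}
      one_mem' := ⟨one_mem D, ⟨0, by simp⟩⟩
      mul_mem' := fun {a b} ha hb => ⟨mul_mem ha.1 hb.1, ha.2.mul hp.out (B.comm a ha.1 b hb.1) hb.2⟩
      inv_mem' := fun {a} ha => ⟨inv_mem ha.1, by
        obtain ⟨k, hk⟩ := ha.2; exact ⟨k, by rw [orderOf_inv, hk]⟩⟩ }
  have hA : IsPGroup p A := by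
    refine IsPGroup.iff_orderOf.mpr fun x => ?_
    obtain ⟨k, hk⟩ := x.2.2
    exact ⟨k, by rw [← orderOf_coe, hk]⟩
  refine ⟨A, fun x hx => hx.1, hA, fun x => Iff.rfl, card_eq_of_forall_mem hA (fun x hx => hx.1)
    (fun x hx h => ⟨hx, h⟩), card_eq_of_forall_mem (hA.to_le inf_le_left) inf_le_right
    (fun x hx h => ⟨⟨B.center_le hx, h⟩, hx⟩), ?_⟩
  intro g hg
  haveI : Finite (A : Set G) := Set.toFinite _
  exact Subgroup.mem_normalizer_fintype fun x hx =>
    ⟨(mem_normalizer_iff.mp hg x).mp hx.1, isPEl_conj g hx.2⟩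

variable (H : Hyp G m n)
include H

lemma n_modEq_one {p : ℕ} [hp : Fact p.Prime] (hpm : p ∣ m) {g : G}
    (hg : g ∈ normalizer (D : Set G)) (hgp : IsPEl p g) (hgD : g ∉ D) : n ≡ 1 [MOD p] := by
  classical
  have key : ∀ q ∈ n.primeFactors, q ^ n.factorization q ≡ 1 [MOD p] := by
    intro q hqn'
    have hq := Nat.prime_of_mem_primeFactors hqn'
    have hqn := Nat.dvd_of_mem_primeFactors hqn'
    haveI := Fact.mk hq
    have hqm := H.not_dvd_m hq hqn
    obtain ⟨Q, -, hQD⟩ := FGS76.exists_sylow_between (p := q) IsPGroup.of_bot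
      (bot_le : (⊥ : Subgroup G) ≤ D) (B.index_eq ▸ hqm)
    have hgQ : g ∈ normalizer ((Q : Subgroup G) : Set G) := by
      haveI : Finite ((Q : Subgroup G) : Set G) := Set.toFinite _
      refine Subgroup.mem_normalizer_fintype fun z hz => ?_
      have hu : g * z * g⁻¹ ∈ D := (mem_normalizer_iff.mp hg z).mp (hQD hz)
      have hle : zpowers (g * z * g⁻¹) ≤ normalizer ((Q : Subgroup G) : Set G) :=
        (zpowers_le.mpr (mem_centralizer_iff.mpr fun y hy =>
          (B.comm y (hQD hy) _ hu).eq)).trans (centralizer_le_normalizer _)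
      have hsup := IsPGroup.to_sup_of_normal_right'
        (FGS76.isPGroup_zpowers (isPEl_conj g (isPEl_of_mem hq Q.2 hz))) Q.2 hle
      have := Q.3 hsup le_sup_right
      exact this ▸ mem_sup_left (mem_zpowers _)
    have h1 := B.modEq_card_inf_center H hgp hgD (Q : Subgroup G) hQD hgQ
    have h2 := card_inf_mul_relIndex (center G) (Q : Subgroup G)
    rw [B.relIndex_center_sylow H hqn Q, inf_comm] at h2
    rw [← h2] at h1
    have h3 : Nat.card ↥((Q : Subgroup G) ⊓ center G) * q ^ n.factorization q ≡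
        Nat.card ↥((Q : Subgroup G) ⊓ center G) * 1 [MOD p] := by rwa [mul_one]
    refine Nat.ModEq.cancel_left_of_coprime ?_ h3
    obtain ⟨e, he⟩ := (Q.2.to_le inf_le_left : IsPGroup q ↥((Q : Subgroup G) ⊓ center G)).exists_card_eq
    rw [he]
    exact ((Nat.coprime_primes hp.out hq).mpr (fun h => hqm (h ▸ hpm))).pow_right e
  have hn := Nat.factorization_prod_pow_eq_self H.n_ne_zero
  rw [Finsupp.prod, Nat.support_factorization] at hn
  conv_lhs => rw [← hn]
  exact Finset.prod_induction _ (fun k => k ≡ 1 [MOD p]) (fun a b ha hb => by simpa using ha.mul hb)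
    rfl key

/-- The two consequences of the free action of `N(D)/D` on `D`. -/
lemma free_facts : (∀ {p : ℕ}, p.Prime → p ∣ m → ∀ P₀ : Subgroup G, IsPGroup p P₀ →
      P₀ ≤ normalizer (D : Set G) → D.relIndex P₀ ≤ p) ∧
    (∀ {p p' : ℕ}, p.Prime → p'.Prime → p ≠ p' → p ∣ m → p' ∣ m →
      ∀ s g : G, s ∈ normalizer (D : Set G) → g ∈ normalizer (D : Set G) → s ∉ D → g ∉ D →
      IsPEl p s → IsPEl p' g → ¬ Commute s g) := by
  classical
  set N := normalizer (D : Set G) with hN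
  have hDN : D ≤ N := le_normalizer
  set D' := D.subgroupOf N with hD'
  haveI : D'.Normal := inferInstance
  letI : CommGroup D' := { (inferInstance : Group D') with
    mul_comm := fun a b => Subtype.ext (Subtype.ext (B.comm _ a.2 _ b.2).eq) }
  let ρ : (N ⧸ D') →* MulAut D' := QuotientGroup.lift D' (MulAut.conjNormal (H := D'))
    (fun x hx => MonoidHom.mem_ker.mpr (MulEquiv.ext fun y => Subtype.ext (Subtype.ext (by
      simp only [MulAut.conjNormal_apply, MulAut.one_apply, Subgroup.coe_mul, InvMemClass.coe_inv]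
      rw [(B.comm (x : G) hx ((y : N) : G) y.2).eq, mul_inv_cancel_right]))))
  let M₀ : Subgroup D' := (center G).comap (N.subtype.comp D'.subtype)
  have hρ : ∀ (g : N) (v : D'), (((ρ (g : N ⧸ D') v : D') : N) : G) =
      (g : G) * ((v : N) : G) * (g : G)⁻¹ := fun g v => by
    simp [ρ, MulAut.conjNormal_apply]
  have hfix : ∀ f, ∀ v ∈ M₀, ρ f v = v := by
    intro f v hv
    induction f using QuotientGroup.induction_on with
    | H g =>
      refine Subtype.ext (Subtype.ext ?_)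
      rw [hρ]
      have hv' : ((v : N) : G) ∈ center G := hv
      rw [mem_center_iff.mp hv' g, mul_inv_cancel_right]
  have hfree : ∀ l, FreeAction.FreeOn ρ M₀ l := by
    intro l f hf v _ hv
    induction f using QuotientGroup.induction_on with
    | H g =>
      by_contra hvZ
      refine hf ((QuotientGroup.eq_one_iff g).mpr ?_)
      have h1 : (g : G) * ((v : N) : G) * (g : G)⁻¹ = ((v : N) : G) := by rw [← hρ, hv]
      rw [hD', mem_subgroupOf, ← B.centralizer_eq H v.2 hvZ, mem_centralizer_singleton_iff]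
      exact mul_inv_eq_iff_eq_mul.mp h1
  have hmoves : ∀ {l}, l.Prime → l ∣ m * n → FreeAction.Moves M₀ l := by
    intro l hl hlmn
    obtain ⟨a, haD, hal, haZ⟩ := B.exists_mem_pEl H hl hlmn
    refine ⟨⟨⟨a, hDN haD⟩, haD⟩, ?_, haZ⟩
    obtain ⟨k, hk⟩ := hal
    exact ⟨k, by rw [← hk, ← orderOf_coe, ← orderOf_coe]⟩
  constructor
  · intro p hp hpm P₀ hP₀ hP₀N
    haveI := Fact.mk hp
    obtain ⟨q, hq, hqn⟩ := Nat.exists_prime_and_dvd H.one_lt_n.ne'
    have hpq : p ≠ q := fun h => H.not_dvd_m hq hqn (h ▸ hpm)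
    have h := FreeAction.card_le_of_isPGroup ρ M₀ hfix hp hq hpq (hfree p)
      (hmoves hp (hpm.mul_right n)) (hfree q) (hmoves hq (hqn.mul_left m))
      ((P₀.subgroupOf N).map (QuotientGroup.mk' D'))
      ((hP₀.of_equiv (subgroupOfEquivOfLe hP₀N).symm).map _)
    rw [← Thompson.relIndex_eq_card_map_mk', hD', Subgroup.relIndex_subgroupOf hP₀N] at h
    exact h
  · intro p p' hp hp' hne hpm hpm' s g hsN hgN hsD hgD hsp hgp hc
    obtain ⟨i, hi⟩ := hsp
    obtain ⟨j, hj⟩ := hgp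
    set s' : N := ⟨s, hsN⟩
    set g' : N := ⟨g, hgN⟩
    have hs1 : (s' : N ⧸ D') ≠ 1 := fun h => hsD ((QuotientGroup.eq_one_iff s').mp h)
    have hg1 : (g' : N ⧸ D') ≠ 1 := fun h => hgD ((QuotientGroup.eq_one_iff g').mp h)
    refine FreeAction.false_of_commute ρ M₀ hfix hp hp' hne (hfree p)
      (hmoves hp (hpm.mul_right n)) ?_ hs1 ?_ hg1 ?_
    · refine FreeAction.pow_eq_one_of_freeOn ρ M₀ hfix hp (hfree p)
        (hmoves hp (hpm.mul_right n)) ⟨i, ?_⟩
      rw [← QuotientGroup.mk_pow, ← hi, show orderOf s = orderOf s' from (orderOf_mk s hsN).symm,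
        pow_orderOf_eq_one, QuotientGroup.mk_one]
    · refine FreeAction.pow_eq_one_of_freeOn ρ M₀ hfix hp' (hfree p')
        (hmoves hp' (hpm'.mul_right n)) ⟨j, ?_⟩
      rw [← QuotientGroup.mk_pow, ← hj, show orderOf g = orderOf g' from (orderOf_mk g hgN).symm,
        pow_orderOf_eq_one, QuotientGroup.mk_one]
    · exact Commute.map (Subtype.ext hc.eq : Commute s' g') (QuotientGroup.mk' D')

/-- If `p` divides the number of conjugates of `D`: its `p`-part is `p`, some `p`-element normalizes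
`D` from outside, and the `p`-part of `D` has order `p` modulo the center. -/
lemma bad_prime {p : ℕ} [hp : Fact p.Prime] (hpk : p ∣ (normalizer (D : Set G)).index) :
    (normalizer (D : Set G)).index.factorization p = 1 ∧
    (∃ g ∈ normalizer (D : Set G), IsPEl p g ∧ g ∉ D) ∧
    (Nat.card D).factorization p = (Nat.card (center G)).factorization p + 1 := by
  classical
  set N := normalizer (D : Set G) with hN
  have hDN : D ≤ N := le_normalizer
  have hpm : p ∣ m := hpk.trans (B.index_eq ▸ index_dvd_of_le hDN)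
  obtain ⟨S⟩ : Nonempty (Sylow p N) := inferInstance
  set P₀ := (S : Subgroup N).map N.subtype with hP₀
  have hP₀p : IsPGroup p P₀ := S.2.map _
  have hP₀N : P₀ ≤ N := map_subtype_le _
  have hmax : ∀ K : Subgroup G, IsPGroup p K → P₀ ≤ K → K ≤ N → K ≤ P₀ := by
    intro K hK h1 h2 x hx
    have h3 := S.3 (hK.of_equiv (subgroupOfEquivOfLe h2).symm) fun y hy =>
      mem_subgroupOf.mpr (h1 ⟨y, hy, rfl⟩)
    exact ⟨⟨x, h2 hx⟩, h3 ▸ mem_subgroupOf.mpr hx, rfl⟩
  obtain ⟨P, hP⟩ := hP₀p.exists_le_sylow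
  have hPN : (P : Subgroup G) ⊓ N ≤ P₀ := hmax _ (P.2.to_le inf_le_left) (le_inf hP hP₀N) inf_le_right
  have hne : P₀ ≠ (P : Subgroup G) := fun h =>
    P.not_dvd_index (hpk.trans (index_dvd_of_le (h ▸ hP₀N)))
  -- an element of `P` outside `N` normalizing `P₀`
  obtain ⟨g, hgP, hgP₀, hgn⟩ : ∃ g ∈ (P : Subgroup G), g ∉ P₀ ∧
      ∀ x ∈ P₀, g * x * g⁻¹ ∈ P₀ := by
    haveI := P.2.isNilpotent
    have hlt : P₀.subgroupOf P < ⊤ := lt_of_le_of_ne le_top fun h => hne
      (le_antisymm hP (subgroupOf_eq_top.mp h))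
    obtain ⟨g, hg1, hg2⟩ := SetLike.exists_of_lt
      (Group.normalizerCondition_of_isNilpotent _ hlt)
    exact ⟨g, g.2, fun h => hg2 (mem_subgroupOf.mpr h), fun x hx =>
      mem_subgroupOf.mp ((mem_normalizer_iff.mp hg1 ⟨x, hP hx⟩).mp (mem_subgroupOf.mpr hx))⟩
  have hgN : g ∉ N := fun h => hgP₀ (hPN ⟨hgP, h⟩)
  obtain ⟨A, hAD, hAp, hAmem, hAcard, hAZcard, hAN⟩ := B.exists_pPart p
  have hAP₀ : A ≤ P₀ := le_sup_right.trans (hmax _
    (IsPGroup.to_sup_of_normal_right' hP₀p hAp (hP₀N.trans hAN)) le_sup_left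
    (sup_le hP₀N (hAD.trans hDN)))
  obtain ⟨a₀, ha₀D, ha₀p, ha₀Z⟩ := B.exists_mem_pEl H hp.out (hpm.mul_right n)
  have ha₀A : a₀ ∈ A := (hAmem a₀).mpr ⟨ha₀D, ha₀p⟩
  set A' := A.map (MulAut.conj g).toMonoidHom with hA'
  have hA'P₀ : A' ≤ P₀ := by
    rintro _ ⟨a, ha, rfl⟩
    exact hgn a (hAP₀ ha)
  have hA'card : Nat.card A' = Nat.card A := card_map_of_injective (MulAut.conj g).injective
  have hA'Z : A' ⊓ D ≤ center G ⊓ A := by
    rintro _ ⟨⟨a, ha, rfl⟩, hD⟩
    have haZ : a ∈ center G := by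
      by_contra h
      exact hgN (B.mem_normalizer_of_conj_mem H ((hAmem a).mp ha).1 h hD)
    refine ⟨(inferInstance : (center G).Normal).conj_mem a haZ g, ?_⟩
    rw [MulEquiv.coe_toMonoidHom, MulAut.conj_apply, mem_center_iff.mp haZ g, mul_inv_cancel_right]
    exact ha
  have hrel : D.relIndex P₀ ≤ p := (B.free_facts H).1 hp.out hpm P₀ hP₀p hP₀N
  have hexists : g * a₀ * g⁻¹ ∈ P₀ ∧ g * a₀ * g⁻¹ ∉ D := ⟨hA'P₀ ⟨a₀, ha₀A, rfl⟩, fun h =>
    hgN (B.mem_normalizer_of_conj_mem H ha₀D ha₀Z h)⟩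
  set α := (Nat.card D).factorization p with hα
  set β := (Nat.card (center G)).factorization p with hβ
  have hαβ : α = β + 1 := by
    have h1 : Nat.card A ≤ Nat.card ↥(A ⊓ center G) * p := by
      rw [← hA'card, ← card_inf_mul_relIndex D A']
      refine Nat.mul_le_mul (card_le_of_le ?_)
        ((Subgroup.relIndex_le_of_le_right hA'P₀ index_ne_zero_of_finite).trans hrel)
      rw [inf_comm D A', inf_comm A (center G)]; exact hA'Z
    have h2 : Nat.card ↥(A ⊓ center G) < Nat.card A := by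
      refine lt_of_le_of_ne (card_le_of_le inf_le_left) fun h => ha₀Z ?_
      rw [← Subgroup.eq_of_le_of_card_ge inf_le_left h.ge] at ha₀A
      exact ha₀A.2
    rw [hAcard, hAZcard] at h1 h2
    rw [← pow_succ] at h1
    have := (Nat.pow_le_pow_iff_right hp.out.one_lt).mp h1
    have := (Nat.pow_lt_pow_iff_right hp.out.one_lt).mp h2
    omega
  -- an element of the second centre of `P`
  set Zp := (P : Subgroup G) ⊓ center G with hZp
  obtain ⟨y, hyP, hyZ, hy⟩ : ∃ y ∈ (P : Subgroup G), y ∉ center G ∧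
      ∀ u ∈ (P : Subgroup G), u * y * u⁻¹ * y⁻¹ ∈ center G := by
    set K := (center G).subgroupOf (P : Subgroup G) with hK
    haveI : Nontrivial ((P : Subgroup G) ⧸ K) := by
      rw [← not_subsingleton_iff_nontrivial]
      intro hss
      have : K = ⊤ := QuotientGroup.subsingleton_iff.mp hss
      exact ha₀Z (subgroupOf_eq_top.mp this (hP (hAP₀ ha₀A)))
    have := (P.2.to_quotient K).center_nontrivial
    obtain ⟨⟨c, hc⟩, hc1⟩ := exists_ne (1 : center ((P : Subgroup G) ⧸ K))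
    obtain ⟨y, rfl⟩ := QuotientGroup.mk'_surjective K c
    refine ⟨y, y.2, fun h => hc1 (Subtype.ext ((QuotientGroup.eq_one_iff y).mpr h)), fun u hu => ?_⟩
    have h1 : QuotientGroup.mk' K (⟨u, hu⟩ * y * ⟨u, hu⟩⁻¹ * y⁻¹) = 1 := by
      rw [map_mul, map_mul, map_mul, mem_center_iff.mp hc (QuotientGroup.mk' K ⟨u, hu⟩), map_inv,
        map_inv, mul_inv_cancel_right, mul_inv_cancel]
    exact mem_subgroupOf.mp ((QuotientGroup.eq_one_iff _).mp h1)
  set Y := (P : Subgroup G) ⊓ centralizer ({y} : Set G) with hY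
  have hZpcard : Nat.card Zp = p ^ β := by
    refine card_eq_of_forall_mem (P.2.to_le inf_le_left) inf_le_right fun x hx hxp => ?_
    exact ⟨hP (hAP₀ ((hAmem x).mpr ⟨B.center_le hx, hxp⟩)), hx⟩
  have hYcard : Nat.card Y ≤ p ^ α := by
    obtain ⟨e, he⟩ := (P.2.to_le (inf_le_left : Y ≤ _)).exists_card_eq
    have h1 := card_dvd_of_le (inf_le_right : Y ≤ centralizer ({y} : Set G))
    rw [he, hp.out.pow_dvd_iff_le_factorization Nat.card_pos.ne'] at h1
    rw [he]
    refine Nat.pow_le_pow_right hp.out.pos (h1.trans ?_)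
    have h2 := factorization_card (centralizer ({y} : Set G)) p
    have h3 := factorization_card D p
    rw [H.factorization_index_of_dvd_m hp.out hpm hyZ] at h2
    rw [B.index_eq] at h3
    omega
  set Y₀ := Zp ⊔ zpowers y
  have hY₀Y : Y₀ ≤ Y := sup_le (le_inf inf_le_left (inf_le_right.trans (center_le_centralizer _)))
    (zpowers_le.mpr ⟨hyP, mem_centralizer_singleton_iff.mpr rfl⟩)
  have hY₀ : Y₀ = Y := by
    refine Subgroup.eq_of_le_of_card_ge hY₀Y (hYcard.trans ?_)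
    obtain ⟨e, he⟩ := (P.2.to_le (hY₀Y.trans inf_le_left)).exists_card_eq
    have hlt : Nat.card Zp < Nat.card Y₀ := by
      refine lt_of_le_of_ne (card_le_of_le le_sup_left) fun h => hyZ ?_
      exact ((Subgroup.eq_of_le_of_card_ge le_sup_left h.ge).symm ▸
        mem_sup_right (mem_zpowers y) : y ∈ Zp).2
    rw [hZpcard, he] at hlt
    rw [he, hαβ]
    exact Nat.pow_le_pow_right hp.out.pos ((Nat.pow_lt_pow_iff_right hp.out.one_lt).mp hlt)
  have hZN : center G ≤ N := B.center_le.trans hDN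
  have hyN : y ∈ N := by
    refine B.mem_normalizer_of_conj_mem H ha₀D ha₀Z ?_
    have h1 := hy a₀ (hP (hAP₀ ha₀A))
    have h2 : y * a₀ * y⁻¹ * a₀⁻¹ ∈ center G := by
      have := inv_mem h1
      rwa [show (a₀ * y * a₀⁻¹ * y⁻¹)⁻¹ = y * a₀ * y⁻¹ * a₀⁻¹ by group] at this
    have := mul_mem (B.center_le h2) ha₀D
    simpa using this
  have hYP₀ : Y ≤ P₀ := hY₀ ▸ sup_le (fun x hx => hPN ⟨hx.1, hZN hx.2⟩)
    (zpowers_le.mpr (hPN ⟨hyP, hyN⟩))
  -- commutators of `P` centralize `y`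
  have hder : ∀ u ∈ (P : Subgroup G), ∀ v ∈ (P : Subgroup G), u * v * u⁻¹ * v⁻¹ ∈ Y := by
    let φ : (P : Subgroup G) →* center G := MonoidHom.mk'
      (fun u => ⟨(u : G) * y * (u : G)⁻¹ * y⁻¹, hy u u.2⟩) (fun u v => by
        apply Subtype.ext
        simp only [Subgroup.coe_mul]
        have hz := mem_center_iff.mp (hy v v.2) (u : G)
        calc (u : G) * v * y * ((u : G) * v)⁻¹ * y⁻¹
            = ((u : G) * ((v : G) * y * (v : G)⁻¹ * y⁻¹)) * (y * (u : G)⁻¹ * y⁻¹) := by group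
          _ = ((v : G) * y * (v : G)⁻¹ * y⁻¹ * (u : G)) * (y * (u : G)⁻¹ * y⁻¹) := by rw [hz]
          _ = (u : G) * y * (u : G)⁻¹ * y⁻¹ * ((v : G) * y * (v : G)⁻¹ * y⁻¹) := by
              rw [mem_center_iff.mp (hy v v.2) ((u : G) * y * (u : G)⁻¹ * y⁻¹)]; group)
    intro u hu v hv
    refine ⟨(P : Subgroup G).mul_mem ((P : Subgroup G).mul_mem ((P : Subgroup G).mul_mem hu hv)
      ((P : Subgroup G).inv_mem hu)) ((P : Subgroup G).inv_mem hv), ?_⟩
    have h1 : φ (⟨u, hu⟩ * ⟨v, hv⟩ * ⟨u, hu⟩⁻¹ * ⟨v, hv⟩⁻¹) = 1 := by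
      rw [map_mul, map_mul, map_mul, map_inv, map_inv,
        show φ ⟨u, hu⟩ * φ ⟨v, hv⟩ = φ ⟨v, hv⟩ * φ ⟨u, hu⟩ from
          Subtype.ext (mem_center_iff.mp (φ ⟨v, hv⟩).2 _),
        mul_inv_cancel_right, mul_inv_cancel]
    have h2 := congrArg Subtype.val h1
    exact mem_centralizer_singleton_iff.mpr (mul_inv_eq_iff_eq_mul.mp (mul_inv_eq_one.mp h2))
  have hnormP₀ : ∀ u ∈ (P : Subgroup G), ∀ x ∈ P₀, u * x * u⁻¹ ∈ P₀ := fun u hu x hx => by
    simpa using mul_mem (hYP₀ (hder u hu x (hP hx))) hx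
  -- `[P : P₀] ≤ p`
  set KY := (center G).subgroupOf Y with hKY
  have hquot : Nat.card (Y ⧸ KY) ≤ p := by
    have h := card_inf_mul_relIndex (center G) Y
    have h1 : center G ⊓ Y = Zp := le_antisymm (fun x hx => ⟨hx.2.1, hx.1⟩)
      fun x hx => ⟨hx.2, hx.1, center_le_centralizer _ hx.2⟩
    rw [h1, hZpcard] at h
    change p ^ β * Nat.card (Y ⧸ KY) = Nat.card Y at h
    have h2 : p ^ β * Nat.card (Y ⧸ KY) ≤ p ^ β * p := by
      rw [h, ← pow_succ, ← hαβ]; exact hYcard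
    exact Nat.le_of_mul_le_mul_left h2 (pow_pos hp.out.pos β)
  let f : ((P : Subgroup G) ⧸ P₀.subgroupOf P) → Y ⧸ KY := fun c =>
    ((⟨(c.out : G) * a₀ * (c.out : G)⁻¹ * a₀⁻¹, hder _ c.out.2 a₀ (hP (hAP₀ ha₀A))⟩ : Y) : Y ⧸ KY)
  have hf : Function.Injective f := by
    intro c c' hcc
    rw [← QuotientGroup.out_eq' c, ← QuotientGroup.out_eq' c', QuotientGroup.eq, mem_subgroupOf]
    have h1 := mem_subgroupOf.mp (QuotientGroup.eq.mp hcc)
    set u := (c.out : G)
    set v := (c'.out : G)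
    simp only [Subgroup.coe_mul, InvMemClass.coe_inv] at h1 ⊢
    set z := (u * a₀ * u⁻¹ * a₀⁻¹)⁻¹ * (v * a₀ * v⁻¹ * a₀⁻¹)
    refine hPN ⟨(P : Subgroup G).mul_mem ((P : Subgroup G).inv_mem c.out.2) c'.out.2,
      B.mem_normalizer_of_conj_mem H ha₀D ha₀Z ?_⟩
    have he : v * a₀ * v⁻¹ = u * a₀ * u⁻¹ * z := by
      have hz := mem_center_iff.mp h1 a₀
      calc v * a₀ * v⁻¹ = u * a₀ * u⁻¹ * a₀⁻¹ * z * a₀ := by simp only [z]; group
        _ = u * a₀ * u⁻¹ * (a₀⁻¹ * (a₀ * z)) := by rw [hz]; group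
        _ = _ := by group
    have : u⁻¹ * v * a₀ * (u⁻¹ * v)⁻¹ = a₀ * z := by
      calc u⁻¹ * v * a₀ * (u⁻¹ * v)⁻¹ = u⁻¹ * (v * a₀ * v⁻¹) * u := by group
        _ = a₀ * (u⁻¹ * (z * u)) := by rw [he]; group
        _ = a₀ * (u⁻¹ * (u * z)) := by rw [mem_center_iff.mp h1 u]
        _ = a₀ * z := by group
    rw [this]
    exact mul_mem ha₀D (B.center_le h1)
  have hle : Nat.card ((P : Subgroup G) ⧸ P₀.subgroupOf P) ≤ p :=
    (Nat.card_le_card_of_injective f hf).trans hquot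
  refine ⟨?_, ⟨_, hP₀N hexists.1, isPEl_of_mem hp.out hP₀p hexists.1, hexists.2⟩, hαβ⟩
  have h := (P₀.subgroupOf (P : Subgroup G)).card_mul_index
  rw [Nat.card_congr (subgroupOfEquivOfLe hP).toEquiv,
    show Nat.card P₀ = p ^ (Nat.card N).factorization p by
      rw [hP₀, card_map_of_injective (subtype_injective N), S.card_eq_multiplicity],
    P.card_eq_multiplicity] at h
  have h4 := factorization_card N p
  rw [← h4, pow_add] at h
  have h5 : p ^ N.index.factorization p ≤ p ^ 1 := by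
    rw [← Nat.eq_of_mul_eq_mul_left (pow_pos hp.out.pos _) h, pow_one]
    exact hle
  have h6 := hp.out.factorization_pos_of_dvd index_ne_zero_of_finite hpk
  have h7 := (Nat.pow_le_pow_iff_right hp.out.one_lt).mp h5
  omega

/-- `D` is normal. -/
theorem normalizer_eq_top : normalizer (D : Set G) = ⊤ := by
  classical
  set N := normalizer (D : Set G) with hN
  by_contra hne
  obtain ⟨p, hp, hpk⟩ := Nat.exists_prime_and_dvd (mt index_eq_one.mp hne)
  haveI := Fact.mk hp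
  obtain ⟨hk1, ⟨g, hgN, hgp, hgD⟩, hcard⟩ := B.bad_prime H hpk
  have hkm : N.index ∣ m := B.index_eq ▸ index_dvd_of_le le_normalizer
  have hcross : ∀ {r s : ℕ}, r.Prime → s.Prime → r ≠ s → r ∣ N.index → s ∣ N.index →
      r ∣ s - 1 := by
    intro r s hr hs hrs hrk hsk
    haveI := Fact.mk hr
    haveI := Fact.mk hs
    obtain ⟨-, ⟨u, huN, hur, huD⟩, -⟩ := B.bad_prime H hrk
    obtain ⟨-, -, hα⟩ := B.bad_prime H hsk
    obtain ⟨A, hAD, -, -, hAcard, hAZcard, hAN⟩ := B.exists_pPart s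
    have h1 := B.modEq_card_inf_center H hur huD A hAD (hAN huN)
    rw [hAcard, hAZcard, hα, pow_succ] at h1
    have h3 : s ^ (Nat.card (center G)).factorization s * s ≡
        s ^ (Nat.card (center G)).factorization s * 1 [MOD r] := by rwa [mul_one]
    have h4 := Nat.ModEq.cancel_left_of_coprime
      (((Nat.coprime_primes hr hs).mpr hrs).pow_right _) h3
    exact (Nat.modEq_iff_dvd' hs.one_lt.le).mp h4.symm
  have huniq : ∀ {r : ℕ}, r.Prime → r ∣ N.index → r = p := by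
    intro r hr hrk
    by_contra hrp
    have h1 := Nat.le_of_dvd (by have := hp.two_le; omega) (hcross hr hp hrp hrk hpk)
    have h2 := Nat.le_of_dvd (by have := hr.two_le; omega) (hcross hp hr (Ne.symm hrp) hpk hrk)
    omega
  have hk : N.index = p := by
    have := Nat.eq_prime_pow_of_unique_prime_dvd index_ne_zero_of_finite huniq
    rw [this] at hk1
    simp [hp.factorization_pow] at hk1
    rw [this, hk1, pow_one]
  have h1 := B.index_normalizer_modEq H
  rw [← hN, hk] at h1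
  have h2 := B.n_modEq_one H (hpk.trans hkm) hgN hgp hgD
  have h3 := Nat.le_of_dvd (by have := hp.two_le; omega) ((Nat.modEq_iff_dvd' hp.one_lt.le).mp h1.symm)
  have h4 := Nat.le_of_dvd (by have := H.one_lt_n; omega)
    ((Nat.modEq_iff_dvd' H.one_lt_n.le).mp h2.symm)
  have := hp.two_le
  omega

end IsBase

end Cfsg.Agent.FGS80.ThreeSizes
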