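import Cfsg.Agent.FGS80.ThreeSizes.Normal

/-!
# Class sizes `{1, m, m * n}` with an abelian centralizer of index `m`: the structure
-/

namespace Cfsg.Agent.FGS80.ThreeSizes

open Subgroup
open scoped commutatorElement

variable {G : Type*} [Group G] [Finite G] {m n : ℕ} {D : Subgroup G}

/-- An element of `D` modulo the center of order `p`, an element outside and the center generate. -/
lemma card_commutator_eq {p : ℕ} [hp : Fact p.Prime] {P : Subgroup G} (hP : IsPGroup p P)
    (hidx : (center G).relIndex P = p ^ 2) {a w : G} (ha : a ∈ P) (hw : w ∈ P)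
    (hpa : a ^ p ∈ center G) (haw : ¬ Commute a w) :
    Nat.card (commutator P) = p := by
  classical
  set K := (center G).subgroupOf P with hK
  have hq2 : Nat.card (P ⧸ K) = p ^ 2 := hidx
  have hcommK : ∀ u v : P, u * v * u⁻¹ * v⁻¹ ∈ K := by
    intro u v
    rw [← QuotientGroup.eq_one_iff]
    have := IsPGroup.isMulCommutative_of_card_eq_prime_sq hq2
    rw [QuotientGroup.mk_mul, QuotientGroup.mk_mul, QuotientGroup.mk_mul, QuotientGroup.mk_inv,
      QuotientGroup.mk_inv, mul_comm' (u : P ⧸ K) (v : P ⧸ K), mul_inv_cancel_right, mul_inv_cancel]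
  set a' : P := ⟨a, ha⟩
  set w' : P := ⟨w, hw⟩
  set z₀ : P := a' * w' * a'⁻¹ * w'⁻¹ with hz₀
  have hcen : ∀ u : P, u ∈ K → ∀ v : P, v * u = u * v := fun u hu v =>
    Subtype.ext (mem_center_iff.mp (mem_subgroupOf.mp hu) v)
  have hz₀K : z₀ ∈ K := hcommK a' w'
  set Z₀ := zpowers z₀
  haveI : Z₀.Normal := ⟨fun u hu v => by
    have : u ∈ K := zpowers_le.mpr hz₀K hu
    rwa [hcen u this v, mul_inv_cancel_right]⟩
  have hz₀p : z₀ ^ p = 1 := by
    have hz : a' * w' = z₀ * w' * a' := by rw [hz₀]; group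
    have hpow : ∀ i : ℕ, a' ^ i * w' = z₀ ^ i * w' * a' ^ i := by
      intro i
      induction i with
      | zero => simp
      | succ i ih =>
        calc a' ^ (i + 1) * w' = a' * (a' ^ i * w') := by rw [pow_succ', mul_assoc]
          _ = a' * z₀ ^ i * w' * a' ^ i := by rw [ih]; group
          _ = z₀ ^ i * (a' * w') * a' ^ i := by rw [hcen _ (K.pow_mem hz₀K i) a']; group
          _ = z₀ ^ (i + 1) * w' * a' ^ (i + 1) := by rw [hz, pow_succ, pow_succ']; group
    have hap : a' ^ p ∈ K := mem_subgroupOf.mpr (by simpa [a'] using hpa)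
    have := hpow p
    rw [← hcen _ hap w', mul_assoc] at this
    exact mul_eq_right.mp this.symm
  have hz₀1 : z₀ ≠ 1 := fun h => haw (by
    have h' : a' * w' * a'⁻¹ * w'⁻¹ = 1 := h
    exact congrArg Subtype.val (mul_inv_eq_iff_eq_mul.mp (mul_inv_eq_one.mp h')))
  have hcard₀ : Nat.card Z₀ = p := by rw [Nat.card_zpowers, orderOf_eq_prime hz₀p hz₀1]
  -- generators
  set U := K ⊔ zpowers a' ⊔ zpowers w'
  have hU : U = ⊤ := by
    haveI := Fintype.ofFinite P
    have hKU : K ≤ U := le_sup_left.trans le_sup_left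
    have h1 : K.relIndex (K ⊔ zpowers a') ≠ 1 := by
      rw [Ne, relIndex_eq_one]
      intro hle
      refine haw ?_
      have := mem_subgroupOf.mp (hle (mem_sup_right (mem_zpowers a')))
      exact (mem_center_iff.mp this w).symm
    have h2 : (K ⊔ zpowers a').relIndex U ≠ 1 := by
      rw [Ne, relIndex_eq_one]
      intro hle
      refine haw ?_
      have hmem : w' ∈ K ⊔ zpowers a' := hle (mem_sup_right (mem_zpowers w'))
      have hle' : K ⊔ zpowers a' ≤ centralizer ({a'} : Set P) :=
        sup_le (fun u hu => mem_centralizer_singleton_iff.mpr (hcen u hu a').symm)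
          (zpowers_le.mpr (mem_centralizer_singleton_iff.mpr rfl))
      exact (congrArg Subtype.val (mem_centralizer_singleton_iff.mp (hle' hmem))).symm
    have h3 := relIndex_mul_relIndex K (K ⊔ zpowers a') U le_sup_left le_sup_left
    have h4 := relIndex_mul_index hKU
    rw [show K.index = p ^ 2 from hq2, ← h3] at h4
    have hd1 : K.relIndex (K ⊔ zpowers a') ∣ p ^ 2 :=
      (Dvd.intro _ rfl).trans ((Dvd.intro _ rfl).trans (dvd_of_eq h4))
    have hd2 : (K ⊔ zpowers a').relIndex U ∣ p ^ 2 :=
      (Dvd.intro_left _ rfl).trans ((Dvd.intro _ rfl).trans (dvd_of_eq h4))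
    obtain ⟨i, -, hi⟩ := (Nat.dvd_prime_pow hp.out).mp hd1
    obtain ⟨j, -, hj⟩ := (Nat.dvd_prime_pow hp.out).mp hd2
    rw [hi, hj, ← pow_add] at h4
    have hi0 : i ≠ 0 := fun h => h1 (by rw [hi, h, pow_zero])
    have hj0 : j ≠ 0 := fun h => h2 (by rw [hj, h, pow_zero])
    rw [← index_eq_one]
    by_contra hne
    obtain ⟨l, -, hl⟩ := (Nat.dvd_prime_pow hp.out).mp (Dvd.intro_left _ h4 : U.index ∣ p ^ 2)
    rw [hl, ← pow_add] at h4
    have h5 := Nat.pow_right_injective hp.out.two_le h4
    have hl0 : l ≠ 0 := fun h => hne (by rw [hl, h, pow_zero])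
    omega
  have hle : commutator P ≤ Z₀ := by
    set π := QuotientGroup.mk' Z₀
    have hπaw : π a' * π w' = π w' * π a' := by
      have h : π z₀ = 1 := (QuotientGroup.eq_one_iff z₀).mpr (mem_zpowers z₀)
      rw [hz₀, map_mul, map_mul, map_mul, map_inv, map_inv, mul_inv_eq_one, mul_inv_eq_iff_eq_mul] at h
      exact h
    have hcenU : ∀ g : P, g ∈ U → π g ∈ center (P ⧸ Z₀) := by
      have hgen : ∀ g : P, π g * π a' = π a' * π g → π g * π w' = π w' * π g →
          π g ∈ center (P ⧸ Z₀) := by
        intro g h1 h2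
        refine mem_center_iff.mpr fun c => ?_
        obtain ⟨u, rfl⟩ := QuotientGroup.mk'_surjective Z₀ c
        have hu : u ∈ U := hU ▸ mem_top u
        have hle : U ≤ (centralizer ({π g} : Set (P ⧸ Z₀))).comap π := by
          refine sup_le (sup_le (fun z hz => ?_) (zpowers_le.mpr ?_)) (zpowers_le.mpr ?_) <;>
            rw [mem_comap, mem_centralizer_singleton_iff]
          · show π z * π g = π g * π z
            rw [← map_mul, ← map_mul, hcen z hz g]
          · exact h1.symm
          · exact h2.symm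
        exact mem_centralizer_singleton_iff.mp (hle hu)
      intro g hg
      refine (?_ : U ≤ (center (P ⧸ Z₀)).comap π) hg
      refine sup_le (sup_le (fun z hz => ?_) (zpowers_le.mpr ?_)) (zpowers_le.mpr ?_)
      · exact hgen z (by rw [← map_mul, ← map_mul, hcen z hz]) (by rw [← map_mul, ← map_mul, hcen z hz])
      · exact hgen a' rfl hπaw
      · exact hgen w' hπaw.symm rfl
    rw [commutator_def, commutator_le]
    intro u _ v _
    rw [← QuotientGroup.eq_one_iff]
    show π ⁅u, v⁆ = 1
    rw [map_commutatorElement, commutatorElement_eq_one_iff_mul_comm]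
    exact (mem_center_iff.mp (hcenU u (hU ▸ mem_top u)) _).symm
  have hge : Z₀ ≤ commutator P := zpowers_le.mpr (by
    rw [commutator_def, hz₀, ← commutatorElement_def]
    exact commutator_mem_commutator (mem_top _) (mem_top _))
  rw [le_antisymm hle hge, hcard₀]

namespace IsBase

variable (B : IsBase D m) (H : Hyp G m n)
include B H

/-- The structure theorem when some element of `π(m)`-order has class size `m`. -/
theorem structure_of_isBase :
    m.Prime ∧ m ∣ n - 1 ∧ (∃ M : Subgroup G, M.Normal ∧ (M : Set G) = {x : G |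
      (centralizer ({x} : Set G)).index = 1 ∨ (centralizer ({x} : Set G)).index = m} ∧
      M.index = m ∧ IsMulCommutative M) ∧
    (∃ N : Subgroup G, N.Normal ∧ (Nat.card N).Coprime m ∧ ∃ a : ℕ, N.index = m ^ a) ∧
    ∀ P : Sylow m G, Nat.card (commutator (P : Subgroup G)) = m := by
  classical
  have hnorm := B.normalizer_eq_top H
  have hDn : D.Normal := normalizer_eq_top_iff.mp hnorm
  have hN : ∀ g : G, g ∈ normalizer (D : Set G) := fun g => hnorm ▸ mem_top g
  have hout : ∀ g : G, g ∉ D → (centralizer ({g} : Set G)).index = m * n := by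
    intro g hg
    refine (H.cases2 fun h => hg (B.center_le h)).resolve_left fun hm => hg ?_
    obtain ⟨z, hz⟩ := B.conj_mem_of_m H hm
    simpa [mul_assoc] using hDn.conj_mem _ hz z⁻¹
  -- every prime divisor of `m` gives an element outside `D`
  have houtP : ∀ {p : ℕ}, p.Prime → p ∣ m → ∃ s : G, IsPEl p s ∧ s ∉ D := by
    intro p hp hpm
    haveI := Fact.mk hp
    obtain ⟨P⟩ : Nonempty (Sylow p G) := inferInstance
    have : ¬ (P : Subgroup G) ≤ D := fun h =>
      P.not_dvd_index ((hpm.trans (dvd_of_eq B.index_eq.symm)).trans (index_dvd_of_le h))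
    obtain ⟨s, hs, hsD⟩ := SetLike.not_le_iff_exists.mp this
    exact ⟨s, isPEl_of_mem hp P.2 hs, hsD⟩
  obtain ⟨p, hp, hpm⟩ := Nat.exists_prime_and_dvd H.one_lt_m.ne'
  haveI hpf := Fact.mk hp
  have huniq : ∀ {r : ℕ}, r.Prime → r ∣ m → r = p := by
    intro r hr hrm
    by_contra hrp
    obtain ⟨s, hs, hsD⟩ := houtP hp hpm
    obtain ⟨v, hv, hvr, hvZ⟩ := H.exists_noncentral_pEl_centralizing hr hrm s
    have hvs : Commute v s := mem_centralizer_singleton_iff.mp hv
    have hvD : v ∉ D := fun h => hvZ (B.mem_center_of_centralizes H (hout s hsD) h hvs)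
    exact (B.free_facts H).2 hp hr (Ne.symm hrp) hpm hrm s v (hN s) (hN v) hsD hvD hs hvr hvs.symm
  obtain ⟨A, hAD, hAp, hAmem, hAcard, hAZcard, -⟩ := B.exists_pPart p
  haveI hAn : A.Normal := ⟨fun x hx g => (hAmem _).mpr
    ⟨hDn.conj_mem x ((hAmem x).mp hx).1 g, isPEl_conj g ((hAmem x).mp hx).2⟩⟩
  set α := (Nat.card D).factorization p with hα
  set β := (Nat.card (center G)).factorization p with hβ
  have hfacG : (Nat.card G).factorization p = α + m.factorization p := by
    rw [← factorization_card D p, B.index_eq]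
  -- `m = p`
  have hm : m = p := by
    have hm' := Nat.eq_prime_pow_of_unique_prime_dvd H.m_ne_zero huniq
    obtain ⟨P⟩ : Nonempty (Sylow p G) := inferInstance
    have h1 := card_inf_mul_relIndex D (P : Subgroup G)
    have h2 : Nat.card ↥(D ⊓ (P : Subgroup G)) ≤ p ^ α := by
      rw [← hAcard]
      exact card_le_of_le fun x hx => (hAmem x).mpr ⟨hx.1, isPEl_of_mem hp P.2 hx.2⟩
    have h3 := (B.free_facts H).1 hp hpm (P : Subgroup G) P.2 (fun g _ => hN g)
    have h4 : p ^ (α + m.factorization p) ≤ p ^ (α + 1) := by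
      rw [← hfacG, ← P.card_eq_multiplicity, ← h1, pow_succ]
      exact Nat.mul_le_mul h2 h3
    have h5 := (Nat.pow_le_pow_iff_right hp.one_lt).mp h4
    have h6 := hp.factorization_pos_of_dvd H.m_ne_zero hpm
    have h7 : m.factorization p = 1 := by omega
    rw [hm', hp.factorization_pow, Finsupp.single_eq_same] at h7
    rw [hm', h7, pow_one]
  subst hm
  have hm1 : m.factorization m = 1 := hp.factorization_self
  rw [hm1] at hfacG
  obtain ⟨s, hs, hsD⟩ := houtP hp dvd_rfl
  have hαβ : α = β + 1 := by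
    obtain ⟨S⟩ : Nonempty (Sylow m (centralizer ({s} : Set G))) := inferInstance
    set S' := (S : Subgroup _).map (centralizer ({s} : Set G)).subtype
    have hS'p : IsPGroup m S' := S.2.map _
    have h1 := card_inf_mul_relIndex D S'
    have h2 : Nat.card ↥(D ⊓ S') ≤ Nat.card ↥(A ⊓ center G) := card_le_of_le fun x hx =>
      ⟨(hAmem x).mpr ⟨hx.1, isPEl_of_mem hp hS'p hx.2⟩, B.mem_center_of_centralizes H (hout s hsD)
        hx.1 (mem_centralizer_singleton_iff.mp (map_subtype_le _ hx.2))⟩
    have h3 := (B.free_facts H).1 hp dvd_rfl S' hS'p (fun g _ => hN g)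
    have h4 : Nat.card S' = m ^ α := by
      rw [card_map_of_injective (subtype_injective _), S.card_eq_multiplicity]
      congr 1
      have := factorization_card (centralizer ({s} : Set G)) m
      rw [hout s hsD, hfacG, Nat.factorization_mul H.m_ne_zero H.n_ne_zero, Finsupp.add_apply,
        hm1, Nat.factorization_eq_zero_of_not_dvd (H.not_dvd_n hp dvd_rfl)] at this
      omega
    have h5 : m ^ α ≤ m ^ (β + 1) := by
      rw [← h4, ← h1, pow_succ]
      exact Nat.mul_le_mul (h2.trans hAZcard.le) h3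
    obtain ⟨a, haD, hap, haZ⟩ := B.exists_mem_pEl H hp (dvd_mul_right m n)
    have h6 : m ^ β < m ^ α := by
      rw [← hAZcard, ← hAcard]
      refine lt_of_le_of_ne (card_le_of_le inf_le_left) fun h => haZ ?_
      have : a ∈ A := (hAmem a).mpr ⟨haD, hap⟩
      rw [← Subgroup.eq_of_le_of_card_ge inf_le_left h.ge] at this
      exact this.2
    have := (Nat.pow_le_pow_iff_right hp.one_lt).mp h5
    have := (Nat.pow_lt_pow_iff_right hp.one_lt).mp h6
    omega
  refine ⟨hp, ?_, ⟨D, hDn, ?_, B.index_eq, ⟨⟨fun a b => Subtype.ext (B.comm _ a.2 _ b.2).eq⟩⟩⟩,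
    ?_, fun P => ?_⟩
  · exact (Nat.modEq_iff_dvd' H.one_lt_n.le).mp
      (B.n_modEq_one H dvd_rfl (hN s) hs hsD).symm
  · ext x
    simp only [SetLike.mem_coe, Set.mem_setOf_eq]
    constructor
    · intro hx
      by_cases hxZ : x ∈ center G
      · exact Or.inl (index_eq_one_iff_mem_center.mpr hxZ)
      · exact Or.inr (by rw [B.centralizer_eq H hx hxZ, B.index_eq])
    · rintro (h | h)
      · exact B.center_le (index_eq_one_iff_mem_center.mp h)
      · by_contra hx
        exact H.mn_ne_m ((hout x hx).symm.trans h)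
  · let N : Subgroup G :=
      { carrier := {x | x ∈ D ∧ (orderOf x).Coprime m}
        one_mem' := ⟨one_mem D, by simp⟩
        mul_mem' := fun {a b} ha hb => ⟨mul_mem ha.1 hb.1, Nat.Coprime.coprime_dvd_left
          ((B.comm a ha.1 b hb.1).orderOf_mul_dvd_lcm.trans (Nat.lcm_dvd_mul _ _))
          (ha.2.mul_left hb.2)⟩
        inv_mem' := fun {a} ha => ⟨inv_mem ha.1, by rw [orderOf_inv]; exact ha.2⟩ }
    refine ⟨N, ⟨fun x hx g => ⟨hDn.conj_mem x hx.1 g, ?_⟩⟩, ?_, ?_⟩
    · rw [show orderOf (g * x * g⁻¹) = orderOf x from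
        orderOf_injective (MulAut.conj g).toMonoidHom (MulAut.conj g).injective x]
      exact hx.2
    · refine Nat.coprime_of_dvd fun r hr h1 h2 => ?_
      haveI := Fact.mk hr
      obtain ⟨x, hx⟩ := exists_prime_orderOf_dvd_card' r h1
      rw [← orderOf_coe] at hx
      exact hr.one_lt.ne' (Nat.eq_one_of_dvd_coprimes x.2.2 (by rw [hx]) h2)
    · refine ⟨_, Nat.eq_prime_pow_of_unique_prime_dvd (p := m) index_ne_zero_of_finite ?_⟩
      intro r hr hrd
      by_contra hrm
      haveI := Fact.mk hr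
      obtain ⟨R⟩ : Nonempty (Sylow r G) := inferInstance
      have hrm' : ¬ r ∣ m := fun h => hrm ((Nat.prime_dvd_prime_iff_eq hr hp).mp h)
      refine R.not_dvd_index (hrd.trans (index_dvd_of_le fun x hx => ?_))
      have hxr := isPEl_of_mem hr R.2 hx
      refine ⟨B.mem_of_mem_normalizer hr hrm' (hN x) hxr, ?_⟩
      obtain ⟨k, hk⟩ := hxr
      rw [hk]
      exact (hr.coprime_iff_not_dvd.mpr hrm').pow_left k
  · have hAP : A ≤ (P : Subgroup G) := by
      have hsup := IsPGroup.to_sup_of_normal_right P.2 hAp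
      exact le_sup_right.trans (P.3 hsup le_sup_left).le
    have hZ : (center G ⊓ (P : Subgroup G)) = A ⊓ center G := le_antisymm
      (fun x hx => ⟨(hAmem x).mpr ⟨B.center_le hx.1, isPEl_of_mem hp P.2 hx.2⟩, hx.1⟩)
      (fun x hx => ⟨hx.2, hAP hx.1⟩)
    have hrel : (center G).relIndex (P : Subgroup G) = m ^ 2 := by
      have h := card_inf_mul_relIndex (center G) (P : Subgroup G)
      rw [hZ, hAZcard, P.card_eq_multiplicity, hfacG, hαβ,
        show β + 1 + 1 = β + 2 by ring, pow_add] at h
      exact Nat.eq_of_mul_eq_mul_left (pow_pos hp.pos β) h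
    obtain ⟨a, haD, hap, haZ⟩ := B.exists_mem_pEl H hp (dvd_mul_right m n)
    have haA : a ∈ A := (hAmem a).mpr ⟨haD, hap⟩
    obtain ⟨w, hwP, hwD⟩ : ∃ w ∈ (P : Subgroup G), w ∉ D := by
      by_contra hcon
      push Not at hcon
      exact P.not_dvd_index ((dvd_of_eq B.index_eq.symm).trans (index_dvd_of_le hcon))
    have hpa : a ^ m ∈ center G := by
      have hidxA : (center G).relIndex A = m := by
        have h := card_inf_mul_relIndex (center G) A
        rw [inf_comm, hAZcard, hAcard, hαβ, pow_succ] at h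
        exact Nat.eq_of_mul_eq_mul_left (pow_pos hp.pos β) h
      have := Subgroup.pow_index_mem ((center G).subgroupOf A) ⟨a, haA⟩
      rw [show ((center G).subgroupOf A).index = m from hidxA] at this
      simpa using mem_subgroupOf.mp this
    exact card_commutator_eq P.2 hrel (hAP haA) hwP hpa fun h =>
      hwD (B.centralizer_eq H haD haZ ▸ mem_centralizer_singleton_iff.mpr h.symm.eq)

end IsBase

end Cfsg.Agent.FGS80.ThreeSizes
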